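import Mathlib
import Groth.Prelude.Def_W4c1arstab1appArSing

/-!
# Normal forms in `k[[x, y]]/(y² - x^(r+1))`

Every element is uniquely `a(x) + b(x) y`.
-/

set_option autoImplicit false
set_option linter.style.haveILetI false

universe u

noncomputable section

namespace Groth.Agent.ArSingLib

open Finsupp

variable (k : Type u) [Field k] (r : ℕ)

/-- The exponent `x^n y^m`. -/
def idx (n m : ℕ) : Fin 2 →₀ ℕ := single 0 n + single 1 m

theorem idx_zero (n m : ℕ) : idx n m 0 = n := by simp [idx]

theorem idx_one (n m : ℕ) : idx n m 1 = m := by simp [idx]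

theorem idx_eta (e : Fin 2 →₀ ℕ) : idx (e 0) (e 1) = e := by
  ext i; fin_cases i <;> simp [idx]

variable {k}

theorem ext_idx {f g : MvPowerSeries (Fin 2) k}
    (h : ∀ n m, MvPowerSeries.coeff (idx n m) f = MvPowerSeries.coeff (idx n m) g) : f = g :=
  MvPowerSeries.ext fun e => by rw [← idx_eta e]; exact h _ _

theorem coeff_Y_pow_mul (j n m : ℕ) (f : MvPowerSeries (Fin 2) k) :
    MvPowerSeries.coeff (idx n m) (MvPowerSeries.X 1 ^ j * f) =
      if j ≤ m then MvPowerSeries.coeff (idx n (m - j)) f else 0 := by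
  rw [MvPowerSeries.X_pow_eq, MvPowerSeries.coeff_monomial_mul, one_mul]
  refine if_congr ?_ (congrArg (fun e => MvPowerSeries.coeff e f) ?_) rfl
  · constructor
    · intro h; simpa [idx] using h 1
    · intro h i; fin_cases i <;> simp [idx, h]
  · ext i; fin_cases i <;> simp [idx]

theorem coeff_X_pow_mul (j n m : ℕ) (f : MvPowerSeries (Fin 2) k) :
    MvPowerSeries.coeff (idx n m) (MvPowerSeries.X 0 ^ j * f) =
      if j ≤ n then MvPowerSeries.coeff (idx (n - j) m) f else 0 := by
  rw [MvPowerSeries.X_pow_eq, MvPowerSeries.coeff_monomial_mul, one_mul]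
  refine if_congr ?_ (congrArg (fun e => MvPowerSeries.coeff e f) ?_) rfl
  · constructor
    · intro h; simpa [idx] using h 0
    · intro h i; fin_cases i <;> simp [idx, h]
  · ext i; fin_cases i <;> simp [idx]

/-- A power series in `x`. -/
def inX : PowerSeries k →ₐ[k] MvPowerSeries (Fin 2) k :=
  PowerSeries.substAlgHom (PowerSeries.HasSubst.of_constantCoeff_zero
    (MvPowerSeries.constantCoeff_X (0 : Fin 2) : MvPowerSeries.constantCoeff
      (MvPowerSeries.X (0 : Fin 2) : MvPowerSeries (Fin 2) k) = 0))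

theorem coeff_inX (a : PowerSeries k) (n m : ℕ) :
    MvPowerSeries.coeff (idx n m) (inX a) = if m = 0 then PowerSeries.coeff n a else 0 := by
  rw [inX, PowerSeries.coe_substAlgHom, PowerSeries.coeff_subst_single, idx_zero]
  refine if_congr ?_ rfl rfl
  constructor
  · intro h; simpa [idx] using DFunLike.congr_fun h 1
  · rintro rfl; simp [idx]

theorem coeff_eqn_mul (n m : ℕ) (q : MvPowerSeries (Fin 2) k) :
    MvPowerSeries.coeff (idx n m) (ArSing.eqn k r * q) =
      (if 2 ≤ m then MvPowerSeries.coeff (idx n (m - 2)) q else 0) -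
        (if r + 1 ≤ n then MvPowerSeries.coeff (idx (n - (r + 1)) m) q else 0) := by
  rw [ArSing.eqn, sub_mul, map_sub, coeff_Y_pow_mul, coeff_X_pow_mul]

/-- The coefficients of the reduction modulo `y² - x^(r+1)`. -/
def red (f : MvPowerSeries (Fin 2) k) (n m : ℕ) : k :=
  MvPowerSeries.coeff (idx n m) f + if _h : r + 1 ≤ n then red f (n - (r + 1)) (m + 2) else 0
termination_by n
decreasing_by omega

theorem xMap_apply (a : PowerSeries k) : ArSing.xMap k r a = Ideal.Quotient.mk _ (inX a) := rfl

theorem exists_rep (z : ArSing.ring k r) :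
    ∃ a b : PowerSeries k, z = ArSing.xMap k r a + ArSing.xMap k r b * ArSing.y k r := by
  obtain ⟨f, rfl⟩ := Ideal.Quotient.mk_surjective z
  refine ⟨PowerSeries.mk fun n => red r f n 0, PowerSeries.mk fun n => red r f n 1, ?_⟩
  rw [xMap_apply, xMap_apply, ← map_mul, ← map_add, Ideal.Quotient.eq, Ideal.mem_span_singleton]
  refine ⟨fun e => red r f (e 0) (e 1 + 2), ext_idx fun n m => ?_⟩
  have hq : ∀ n m, MvPowerSeries.coeff (idx n m)
      (fun e => red r f (e 0) (e 1 + 2) : MvPowerSeries (Fin 2) k) = red r f n (m + 2) := fun n m => by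
    show red r f (idx n m 0) (idx n m 1 + 2) = _
    rw [idx_zero, idx_one]
  rw [coeff_eqn_mul, hq, hq, map_sub, map_add, coeff_inX, mul_comm (inX _), ← pow_one (MvPowerSeries.X 1),
    coeff_Y_pow_mul, coeff_inX, PowerSeries.coeff_mk, PowerSeries.coeff_mk]
  have h := red.eq_def r f n m
  rcases m with _ | _ | m
  · simp only [nonpos_iff_eq_zero, one_ne_zero, if_false, if_true, add_zero, OfNat.ofNat_ne_zero]
    rw [h]; split_ifs <;> simp
  · simp only [le_refl, if_true, one_ne_zero, if_false, Nat.sub_self, zero_add,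
      show ¬ 2 ≤ 1 from by omega]
    rw [h]; split_ifs <;> simp
  · rw [if_pos (by omega : 2 ≤ m + 2), if_neg (by omega : ¬ m + 2 = 0), if_pos (by omega : 1 ≤ m + 2),
      if_neg (by omega : ¬ m + 2 - 1 = 0), show m + 2 - 2 + 2 = m + 2 by omega, h]
    split_ifs <;> simp

theorem rep_eq_zero {a b : PowerSeries k}
    (h : ArSing.xMap k r a + ArSing.xMap k r b * ArSing.y k r = 0) : a = 0 ∧ b = 0 := by
  rw [xMap_apply, xMap_apply, ← map_mul, ← map_add, Ideal.Quotient.eq_zero_iff_dvd] at h
  obtain ⟨q, hq⟩ := h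
  have hc : ∀ n m, (if m = 0 then PowerSeries.coeff n a else 0) +
      (if 1 ≤ m then (if m - 1 = 0 then PowerSeries.coeff n b else 0) else 0) =
      (if 2 ≤ m then MvPowerSeries.coeff (idx n (m - 2)) q else 0) -
        (if r + 1 ≤ n then MvPowerSeries.coeff (idx (n - (r + 1)) m) q else 0) := fun n m => by
    rw [← coeff_eqn_mul, ← hq, map_add, coeff_inX, mul_comm (inX b), ← pow_one (MvPowerSeries.X 1),
      coeff_Y_pow_mul, coeff_inX]
  have hq0 : ∀ n m, MvPowerSeries.coeff (idx n m) q = 0 := by
    intro n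
    induction n using Nat.strong_induction_on with
    | _ n ih =>
      intro m
      have := hc n (m + 2)
      rw [if_neg (by omega), if_pos (by omega : 1 ≤ m + 2), if_neg (by omega : ¬ m + 2 - 1 = 0),
        if_pos (by omega : 2 ≤ m + 2), show m + 2 - 2 = m by omega] at this
      by_cases hr : r + 1 ≤ n
      · rw [if_pos hr, ih (n - (r + 1)) (by omega)] at this
        simpa using this.symm
      · rw [if_neg hr] at this
        simpa using this.symm
  constructor
  · ext n
    simpa [hq0] using hc n 0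
  · ext n
    simpa [hq0] using hc n 1

theorem rep_unique {a b a' b' : PowerSeries k}
    (h : ArSing.xMap k r a + ArSing.xMap k r b * ArSing.y k r =
      ArSing.xMap k r a' + ArSing.xMap k r b' * ArSing.y k r) : a = a' ∧ b = b' := by
  obtain ⟨h1, h2⟩ := rep_eq_zero r (a := a - a') (b := b - b')
    (by rw [map_sub, map_sub]; linear_combination h)
  exact ⟨sub_eq_zero.1 h1, sub_eq_zero.1 h2⟩

@[simp]
theorem xMap_X : ArSing.xMap k r PowerSeries.X = ArSing.x k r := by
  rw [xMap_apply, inX, PowerSeries.substAlgHom_X]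

theorem y_sq : ArSing.y k r ^ 2 = ArSing.x k r ^ (r + 1) := by
  rw [← map_pow, ← map_pow, Ideal.Quotient.eq, Ideal.mem_span_singleton]
  exact dvd_rfl

theorem y_sq' : ArSing.y k r * ArSing.y k r = ArSing.xMap k r (PowerSeries.X ^ (r + 1)) := by
  rw [← pow_two, y_sq, map_pow, xMap_X]

theorem rep_mul (a b a' b' : PowerSeries k) :
    (ArSing.xMap k r a + ArSing.xMap k r b * ArSing.y k r) *
      (ArSing.xMap k r a' + ArSing.xMap k r b' * ArSing.y k r) =
    ArSing.xMap k r (a * a' + b * b' * PowerSeries.X ^ (r + 1)) +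
      ArSing.xMap k r (a * b' + a' * b) * ArSing.y k r := by
  simp only [map_add, map_mul]
  linear_combination (ArSing.xMap k r b * ArSing.xMap k r b') * y_sq' (k := k) r

/-- The normal form `a + b y`. -/
def rep (a b : PowerSeries k) : ArSing.ring k r := ArSing.xMap k r a + ArSing.xMap k r b * ArSing.y k r

theorem xMap_eq_rep (a : PowerSeries k) : ArSing.xMap k r a = rep r a 0 := by simp [rep]

theorem y_eq_rep : ArSing.y k r = rep r 0 1 := by simp [rep]

theorem x_eq_rep : ArSing.x k r = rep r PowerSeries.X 0 := by simp [rep]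

theorem xMap_injective : Function.Injective (ArSing.xMap k r) := fun a a' h =>
  (rep_unique r (b := 0) (b' := 0) (by rw [h])).1

end Groth.Agent.ArSingLib
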