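import Mathlib
import Groth.Agent.ArSingLib.Normal
import Groth.Agent.FiniteCompleteLib.Basic
import Groth.Agent.CompleteSurjLib.Basic
import Groth.Agent.PowerSeriesInvLib.Basic
import Groth.Agent.WildQuotLib.PSReg

/-!
# Homomorphisms out of `k[[x, y]]/(y² - x^(r+1))`
-/

set_option autoImplicit false
set_option linter.style.haveILetI false

universe u

noncomputable section

namespace Groth.Agent.ArSingLib

open IsLocalRing

variable {k : Type u} [Field k] (r : ℕ)

theorem constantCoeff_eqn : MvPowerSeries.constantCoeff (ArSing.eqn k r) = 0 := by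
  simp [ArSing.eqn]

instance instNontrivial : Nontrivial (ArSing.ring k r) :=
  Ideal.Quotient.nontrivial_iff.2 fun h => by
    rw [Ideal.span_singleton_eq_top, MvPowerSeries.isUnit_iff_constantCoeff, constantCoeff_eqn] at h
    exact not_isUnit_zero h

instance instIsLocalRing : IsLocalRing (ArSing.ring k r) :=
  IsLocalRing.of_surjective' (Ideal.Quotient.mk _) Ideal.Quotient.mk_surjective

instance instIsAdicComplete : IsAdicComplete (maximalIdeal (ArSing.ring k r)) (ArSing.ring k r) :=
  FiniteCompleteLib.isAdicComplete_maximalIdeal (MvPowerSeries (Fin 2) k) _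

/-- The value at the closed point. -/
def aug : ArSing.ring k r →ₐ[k] k :=
  Ideal.Quotient.liftₐ (Ideal.span {ArSing.eqn k r})
    ({ (MvPowerSeries.constantCoeff (σ := Fin 2) (R := k)) with
        commutes' := fun c => MvPowerSeries.constantCoeff_C c } : MvPowerSeries (Fin 2) k →ₐ[k] k)
    fun f hf => by
      obtain ⟨g, rfl⟩ := Ideal.mem_span_singleton.1 hf
      show MvPowerSeries.constantCoeff (ArSing.eqn k r * g) = 0
      rw [map_mul, constantCoeff_eqn, zero_mul]

theorem aug_mk (f : MvPowerSeries (Fin 2) k) :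
    aug r (Ideal.Quotient.mk _ f) = MvPowerSeries.constantCoeff f := rfl

theorem mem_max_iff (z : ArSing.ring k r) : z ∈ maximalIdeal (ArSing.ring k r) ↔ aug r z = 0 := by
  obtain ⟨f, rfl⟩ := Ideal.Quotient.mk_surjective z
  rw [aug_mk, mem_maximalIdeal, mem_nonunits_iff]
  constructor
  · intro h
    by_contra h0
    exact h ((MvPowerSeries.isUnit_iff_constantCoeff.2 (isUnit_iff_ne_zero.2 h0)).map _)
  · intro h hu
    exact (hu.map (aug r)).ne_zero (by rw [aug_mk, h])

@[simp] theorem aug_x : aug r (ArSing.x k r) = 0 := MvPowerSeries.constantCoeff_X _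

@[simp] theorem aug_y : aug r (ArSing.y k r) = 0 := MvPowerSeries.constantCoeff_X _

@[simp] theorem aug_xMap (a : PowerSeries k) : aug r (ArSing.xMap k r a) = PowerSeries.constantCoeff a := by
  rw [xMap_apply, aug_mk]
  have h := coeff_inX a 0 0
  rwa [if_pos rfl, idx, Finsupp.single_zero, Finsupp.single_zero, add_zero,
    MvPowerSeries.coeff_zero_eq_constantCoeff_apply, PowerSeries.coeff_zero_eq_constantCoeff_apply] at h

theorem x_mem : ArSing.x k r ∈ maximalIdeal (ArSing.ring k r) := (mem_max_iff r _).2 (aug_x r)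

theorem y_mem : ArSing.y k r ∈ maximalIdeal (ArSing.ring k r) := (mem_max_iff r _).2 (aug_y r)

theorem mem_max_rep (a b : PowerSeries k) :
    rep r a b ∈ maximalIdeal (ArSing.ring k r) ↔ PowerSeries.constantCoeff a = 0 := by
  rw [mem_max_iff, rep]; simp

theorem max_eq_span : maximalIdeal (ArSing.ring k r) = Ideal.span {ArSing.x k r, ArSing.y k r} := by
  refine le_antisymm (fun z hz => ?_) (Ideal.span_le.2 ?_)
  · obtain ⟨a, b, rfl⟩ := exists_rep r z
    obtain ⟨a', rfl⟩ := PowerSeries.X_dvd_iff.2 ((mem_max_rep r a b).1 hz)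
    rw [map_mul, xMap_X, Ideal.mem_span_pair]
    exact ⟨ArSing.xMap k r a', ArSing.xMap k r b, by ring⟩
  · rintro z (rfl | rfl)
    exacts [x_mem r, y_mem r]

variable {T : Type*} [CommRing T] [Algebra k T] [IsNoetherianRing T] [IsLocalRing T]

/-- Maps out of `k[[X]]` into a Noetherian local ring are determined by the image of `X`. -/
theorem psExt {f g : PowerSeries k →ₐ[k] T} (hf : f PowerSeries.X ∈ maximalIdeal T)
    (h : f PowerSeries.X = g PowerSeries.X) : f = g := by
  refine AlgHom.ext fun a => ?_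
  haveI := IsHausdorff.of_isLocalRing (M := T) (maximalIdeal T) (maximalIdeal.isMaximal T).ne_top
  refine (IsHausdorff.eq_iff_smodEq (I := maximalIdeal T)).2 fun n => ?_
  rw [SModEq.sub_mem, smul_eq_mul, Ideal.mul_top, PowerSeries.eq_X_pow_mul_shift_add_trunc n a]
  have ht : f (PowerSeries.trunc n a : PowerSeries k) = g (PowerSeries.trunc n a : PowerSeries k) := by
    have h' : f.comp (Polynomial.coeToPowerSeries.algHom k) = g.comp (Polynomial.coeToPowerSeries.algHom k) :=
      Polynomial.algHom_ext (by simpa using h)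
    simpa using DFunLike.congr_fun h' (PowerSeries.trunc n a)
  rw [map_add, map_add, ht, add_sub_add_right_eq_sub, map_mul, map_mul, map_pow, map_pow, ← h, ← mul_sub]
  exact Ideal.mul_mem_right _ _ (Ideal.pow_mem_pow hf n)

/-- Maps out of `ArSing.ring k r` into a Noetherian local ring are determined by the images of `x`, `y`. -/
theorem ringExt {f g : ArSing.ring k r →ₐ[k] T} (hf : f (ArSing.x k r) ∈ maximalIdeal T)
    (hx : f (ArSing.x k r) = g (ArSing.x k r)) (hy : f (ArSing.y k r) = g (ArSing.y k r)) : f = g := by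
  refine AlgHom.ext fun z => ?_
  obtain ⟨a, b, rfl⟩ := exists_rep r z
  have h : f.comp (ArSing.xMap k r) = g.comp (ArSing.xMap k r) :=
    psExt (by simpa using hf) (by simpa using hx)
  have ha := DFunLike.congr_fun h a
  have hb := DFunLike.congr_fun h b
  simp only [AlgHom.comp_apply] at ha hb
  simp only [map_add, map_mul, ha, hb, hy]

/-- The map of `k[[x, y]]` given by two series without constant term. -/
def substHom {τ : Type*} [Finite τ] (u : Fin 2 → MvPowerSeries τ k) (h : ∀ i, MvPowerSeries.constantCoeff (u i) = 0) :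
    MvPowerSeries (Fin 2) k →ₐ[k] MvPowerSeries τ k :=
  MvPowerSeries.substAlgHom (MvPowerSeries.hasSubst_of_constantCoeff_zero h)

theorem substHom_X {τ : Type*} [Finite τ] (u : Fin 2 → MvPowerSeries τ k)
    (h : ∀ i, MvPowerSeries.constantCoeff (u i) = 0) (i : Fin 2) :
    substHom u h (MvPowerSeries.X i) = u i :=
  MvPowerSeries.substAlgHom_X (MvPowerSeries.hasSubst_of_constantCoeff_zero h) i

theorem w_const (u w : PowerSeries k) (hu : PowerSeries.constantCoeff u = 0) (h : w ^ 2 = u ^ (r + 1)) :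
    PowerSeries.constantCoeff w = 0 := by
  have h' := congrArg PowerSeries.constantCoeff h
  rw [map_pow, map_pow, hu, zero_pow (Nat.succ_ne_zero r)] at h'
  exact (pow_eq_zero_iff two_ne_zero).1 h'

theorem vec_const {τ : Type*} (u w : MvPowerSeries τ k) (hu : MvPowerSeries.constantCoeff u = 0)
    (hw : MvPowerSeries.constantCoeff w = 0) : ∀ i : Fin 2, MvPowerSeries.constantCoeff (![u, w] i) = 0 :=
  Fin.forall_fin_two.2 ⟨hu, hw⟩

/-- The map to `k[[t]]` sending `x`, `y` to given series. -/
def toPS (u w : PowerSeries k) (hu : PowerSeries.constantCoeff u = 0) (h : w ^ 2 = u ^ (r + 1)) :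
    ArSing.ring k r →ₐ[k] PowerSeries k :=
  Ideal.Quotient.liftₐ (Ideal.span {ArSing.eqn k r})
    (substHom (τ := Unit) ![u, w] (vec_const u w hu (w_const r u w hu h)))
    fun f hf => by
      obtain ⟨g, rfl⟩ := Ideal.mem_span_singleton.1 hf
      rw [map_mul, ArSing.eqn, map_sub, map_pow, map_pow, substHom_X, substHom_X]
      simp [h]

theorem toPS_x (u w : PowerSeries k) (hu : PowerSeries.constantCoeff u = 0) (h : w ^ 2 = u ^ (r + 1)) :
    toPS r u w hu h (ArSing.x k r) = u :=
  substHom_X _ (vec_const u w hu (w_const r u w hu h)) 0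

theorem toPS_y (u w : PowerSeries k) (hu : PowerSeries.constantCoeff u = 0) (h : w ^ 2 = u ^ (r + 1)) :
    toPS r u w hu h (ArSing.y k r) = w :=
  substHom_X _ (vec_const u w hu (w_const r u w hu h)) 1

/-- There is a map between two of the rings with prescribed images of `x`, `y`. -/
theorem exists_hom {r' : ℕ} (u w : ArSing.ring k r') (hu : u ∈ maximalIdeal (ArSing.ring k r'))
    (h : w ^ 2 = u ^ (r + 1)) :
    ∃ f : ArSing.ring k r →ₐ[k] ArSing.ring k r', f (ArSing.x k r) = u ∧ f (ArSing.y k r) = w := by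
  have hw : w ∈ maximalIdeal (ArSing.ring k r') :=
    (maximalIdeal.isMaximal _).isPrime.mem_of_pow_mem 2 (h ▸ Ideal.pow_mem_of_mem _ hu _ r.succ_pos)
  obtain ⟨U, rfl⟩ := Ideal.Quotient.mk_surjective u
  obtain ⟨W, rfl⟩ := Ideal.Quotient.mk_surjective w
  rw [mem_max_iff, aug_mk] at hu hw
  let g := (Ideal.Quotient.mkₐ k (Ideal.span {ArSing.eqn k r'})).comp
    (substHom ![U, W] (vec_const U W hu hw))
  have gX : ∀ i, g (MvPowerSeries.X i) = Ideal.Quotient.mk _ (![U, W] i) :=
    fun i => congrArg (Ideal.Quotient.mk _) (substHom_X _ (vec_const U W hu hw) i)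
  refine ⟨Ideal.Quotient.liftₐ (Ideal.span {ArSing.eqn k r}) g fun f hf => ?_, gX 0, gX 1⟩
  obtain ⟨q, rfl⟩ := Ideal.mem_span_singleton.1 hf
  show g ((MvPowerSeries.X 1 ^ 2 - MvPowerSeries.X 0 ^ (r + 1)) * q) = 0
  rw [map_mul, map_sub, map_pow, map_pow, gX, gX]
  simp [h]

/-- An endomorphism which is onto on cotangent spaces is an automorphism. -/
theorem bijective_of_endo (f : ArSing.ring k r →ₐ[k] ArSing.ring k r)
    (hx : f (ArSing.x k r) ∈ maximalIdeal (ArSing.ring k r))
    (hy : f (ArSing.y k r) ∈ maximalIdeal (ArSing.ring k r))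
    (h : ArSing.x k r ∈ Ideal.span {f (ArSing.x k r), f (ArSing.y k r)} ⊔ maximalIdeal (ArSing.ring k r) ^ 2 ∧
      ArSing.y k r ∈ Ideal.span {f (ArSing.x k r), f (ArSing.y k r)} ⊔ maximalIdeal (ArSing.ring k r) ^ 2) :
    Function.Bijective f := by
  have hm : (maximalIdeal (ArSing.ring k r)).map f = Ideal.span {f (ArSing.x k r), f (ArSing.y k r)} := by
    conv_lhs => rw [max_eq_span]
    rw [Ideal.map_span, Set.image_pair]
  have hs : Function.Surjective f := by
    refine CompleteSurjLib.surjective_of_cotangent (fun z => ?_) f ?_ ?_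
    · obtain ⟨z, rfl⟩ := IsLocalRing.residue_surjective z
      refine ⟨aug r z, ?_⟩
      rw [RingHom.comp_apply, ← sub_eq_zero, ← map_sub, IsLocalRing.residue_eq_zero_iff, mem_max_iff, map_sub,
        AlgHom.commutes, Algebra.algebraMap_self_apply, sub_self]
    · rw [hm, Ideal.span_le]
      rintro z (rfl | rfl)
      exacts [hx, hy]
    · rw [hm]
      refine le_of_eq_of_le (max_eq_span r) (Ideal.span_le.2 ?_)
      rintro z (rfl | rfl)
      exacts [h.1, h.2]
  exact ⟨PowerSeriesInvLib.injective_of_surjective_endo f.toRingHom hs, hs⟩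

/-- Square roots of series with unit constant term. -/
theorem exists_sqrt [IsAlgClosed k] (h2 : (2 : k) ≠ 0) (U : PowerSeries k)
    (hU : PowerSeries.constantCoeff U ≠ 0) :
    ∃ s : PowerSeries k, s ^ 2 = U ∧ PowerSeries.constantCoeff s ≠ 0 := by
  obtain ⟨c, hc⟩ := IsAlgClosed.exists_pow_nat_eq (PowerSeries.constantCoeff U) (n := 2) two_pos
  have hc0 : c ≠ 0 := fun h => hU (by rw [← hc, h]; simp)
  have h2c : IsUnit (PowerSeries.C (2 * c)) := (isUnit_iff_ne_zero.2 (mul_ne_zero h2 hc0)).map _
  obtain ⟨s, hs, hmem⟩ := HenselianRing.is_henselian (R := PowerSeries k) (I := Ideal.span {PowerSeries.X})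
    (Polynomial.X ^ 2 - Polynomial.C U) (Polynomial.monic_X_pow_sub_C _ two_ne_zero) (PowerSeries.C c) (by
      rw [Ideal.mem_span_singleton, PowerSeries.X_dvd_iff]
      simp [hc]) (by
      refine IsUnit.map _ ?_
      convert h2c using 1
      rw [map_mul, map_ofNat]
      simp [one_add_one_eq_two])
  refine ⟨s, ?_, ?_⟩
  · simpa [sub_eq_zero] using hs
  · rw [Ideal.mem_span_singleton, PowerSeries.X_dvd_iff, map_sub, PowerSeries.constantCoeff_C, sub_eq_zero] at hmem
    rwa [hmem]

end Groth.Agent.ArSingLib
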