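import Mathlib
import Groth.Agent.ArSingLib.Hom

/-!
# The standard involutions of `k[[x, y]]/(y² - x^(r+1))`
-/

set_option autoImplicit false
set_option linter.style.haveILetI false

universe u

noncomputable section

namespace Groth.Agent.ArSingLib

open IsLocalRing

variable {k : Type u} [Field k] (r : ℕ)

/-- `a(X) ↦ a(cX)`. -/
def rsc (c : k) : PowerSeries k →ₐ[k] PowerSeries k :=
  { PowerSeries.rescale c with
    commutes' := fun a => by
      ext n
      show PowerSeries.coeff n (PowerSeries.rescale c (PowerSeries.C a)) = PowerSeries.coeff n (PowerSeries.C a)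
      rw [PowerSeries.coeff_rescale, PowerSeries.coeff_C]
      split_ifs with h <;> simp [h] }

theorem rsc_apply (c : k) (f : PowerSeries k) : rsc c f = PowerSeries.rescale c f := rfl

theorem coeff_rsc (c : k) (f : PowerSeries k) (n : ℕ) :
    PowerSeries.coeff n (rsc c f) = c ^ n * PowerSeries.coeff n f :=
  PowerSeries.coeff_rescale f c n

@[simp] theorem constantCoeff_rsc (c : k) (f : PowerSeries k) :
    PowerSeries.constantCoeff (rsc c f) = PowerSeries.constantCoeff f := by
  rw [← PowerSeries.coeff_zero_eq_constantCoeff_apply, coeff_rsc, pow_zero, one_mul,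
    PowerSeries.coeff_zero_eq_constantCoeff_apply]

theorem rsc_one (f : PowerSeries k) : rsc 1 f = f := by
  rw [rsc_apply, PowerSeries.rescale_one, RingHom.id_apply]

theorem rsc_X (c : k) : rsc c (PowerSeries.X : PowerSeries k) = PowerSeries.C c * PowerSeries.X :=
  PowerSeries.rescale_X c

/-- `a(X) ↦ a(X²)`. -/
def sq2 : PowerSeries k →ₐ[k] PowerSeries k := PowerSeries.expand 2 two_ne_zero

theorem sq2_X : sq2 (PowerSeries.X : PowerSeries k) = PowerSeries.X ^ 2 := PowerSeries.expand_X 2 two_ne_zero

theorem coeff_sq2 (f : PowerSeries k) (n : ℕ) :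
    PowerSeries.coeff n (sq2 f) = if 2 ∣ n then PowerSeries.coeff (n / 2) f else 0 := by
  split_ifs with h
  · obtain ⟨m, rfl⟩ := h
    rw [sq2, PowerSeries.coeff_expand_mul, Nat.mul_div_cancel_left m two_pos]
  · exact PowerSeries.coeff_expand_of_not_dvd 2 two_ne_zero f h

@[simp] theorem constantCoeff_sq2 (f : PowerSeries k) :
    PowerSeries.constantCoeff (sq2 f) = PowerSeries.constantCoeff f :=
  PowerSeries.constantCoeff_expand 2 two_ne_zero f

/-- The equational criterion for a flat ring map. -/
theorem exists_relation {A B : Type*} [CommRing A] [CommRing B] (f : A →+* B) (hf : f.Flat) {ι : Type*} [Fintype ι]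
    (c : ι → A) (z : ι → B) (h : ∑ i, f (c i) * z i = 0) :
    ∃ (n : ℕ) (a : ι → Fin n → A) (y : Fin n → B),
      (∀ i, z i = ∑ j, f (a i j) * y j) ∧ ∀ j, ∑ i, c i * a i j = 0 := by
  letI := f.toAlgebra
  haveI : Module.Flat A B := hf
  exact Module.Flat.isTrivialRelation_of_sum_smul_eq_zero (R := A) (M := B) (f := c) (x := z) h

theorem sq2_injective : Function.Injective (sq2 (k := k)) := fun f g h => by
  ext n
  have := congrArg (PowerSeries.coeff (2 * n)) h
  simpa [coeff_sq2] using this

theorem rsc_neg_sq2 (f : PowerSeries k) : rsc (-1 : k) (sq2 f) = sq2 f := by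
  ext n
  rw [coeff_rsc, coeff_sq2]
  split_ifs with h
  · rw [(even_iff_two_dvd.2 h).neg_one_pow, one_mul]
  · rw [mul_zero]

theorem exists_sq2_of_even (h2 : (2 : k) ≠ 0) {f : PowerSeries k} (h : rsc (-1 : k) f = f) :
    ∃ g, f = sq2 g := by
  refine ⟨PowerSeries.mk fun n => PowerSeries.coeff (2 * n) f, ?_⟩
  ext n
  rw [coeff_sq2]
  split_ifs with hn
  · rw [PowerSeries.coeff_mk, Nat.mul_div_cancel' hn]
  · have := congrArg (PowerSeries.coeff n) h
    rw [coeff_rsc, (Nat.not_even_iff_odd.1 (fun he => hn he.two_dvd)).neg_one_pow] at this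
    have h' : (2 : k) * PowerSeries.coeff n f = 0 := by linear_combination -this
    exact (mul_eq_zero.1 h').resolve_left h2

theorem exists_sq2_of_odd (h2 : (2 : k) ≠ 0) {f : PowerSeries k} (h : rsc (-1 : k) f = -f) :
    ∃ g, f = PowerSeries.X * sq2 g := by
  have h0 : PowerSeries.constantCoeff f = 0 := by
    have := congrArg (PowerSeries.coeff 0) h
    rw [coeff_rsc, map_neg, PowerSeries.coeff_zero_eq_constantCoeff_apply] at this
    have h' : (2 : k) * PowerSeries.constantCoeff f = 0 := by linear_combination this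
    exact (mul_eq_zero.1 h').resolve_left h2
  obtain ⟨q, rfl⟩ := PowerSeries.X_dvd_iff.2 h0
  rw [map_mul, rsc_X, map_neg, map_one, neg_one_mul, neg_mul, neg_inj] at h
  obtain ⟨g, rfl⟩ := exists_sq2_of_even h2 (mul_left_cancel₀ PowerSeries.X_ne_zero h)
  exact ⟨g, rfl⟩

/-- The value of a map commuting with `xMap` on normal forms. -/
theorem apply_rep {r' : ℕ} (f : ArSing.ring k r →ₐ[k] ArSing.ring k r') (F : PowerSeries k →ₐ[k] PowerSeries k)
    (hF : PowerSeries.constantCoeff (F PowerSeries.X) = 0)
    (hx : f (ArSing.x k r) = ArSing.xMap k r' (F PowerSeries.X)) (a b : PowerSeries k) :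
    f (rep r a b) = ArSing.xMap k r' (F a) + ArSing.xMap k r' (F b) * f (ArSing.y k r) := by
  have h : f.comp (ArSing.xMap k r) = (ArSing.xMap k r').comp F :=
    psExt (by rw [AlgHom.comp_apply, xMap_X, hx, mem_max_iff, aug_xMap, hF])
      (by rw [AlgHom.comp_apply, AlgHom.comp_apply, xMap_X, hx])
  have ha := DFunLike.congr_fun h a
  have hb := DFunLike.congr_fun h b
  simp only [AlgHom.comp_apply] at ha hb
  rw [rep, map_add, map_mul, ha, hb]

/-- Signed maps `x ↦ c x`, `y ↦ d y`. -/
theorem apply_rep_sign (f : ArSing.ring k r →ₐ[k] ArSing.ring k r) (c d : k)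
    (hx : f (ArSing.x k r) = c • ArSing.x k r) (hy : f (ArSing.y k r) = d • ArSing.y k r)
    (a b : PowerSeries k) : f (rep r a b) = rep r (rsc c a) (d • rsc c b) := by
  rw [apply_rep r f (rsc c) (by simp [rsc_X]) ?_ a b, hy, rep, map_smul, smul_mul_assoc,
    mul_smul_comm]
  rw [hx, rsc_X, map_mul, xMap_X, ← PowerSeries.algebraMap_eq, AlgHom.commutes]
  exact Algebra.smul_def c (ArSing.x k r)

theorem y_mul_rep (a b : PowerSeries k) :
    ArSing.y k r * rep r a b = rep r (b * PowerSeries.X ^ (r + 1)) a := by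
  rw [rep, rep, map_mul]
  linear_combination (ArSing.xMap k r b) * y_sq' (k := k) r

theorem x_mul_rep (a b : PowerSeries k) :
    ArSing.x k r * rep r a b = rep r (PowerSeries.X * a) (PowerSeries.X * b) := by
  rw [rep, rep, map_mul, map_mul, xMap_X]; ring

theorem x_mem_nonZeroDivisors : ArSing.x k r ∈ nonZeroDivisors (ArSing.ring k r) := by
  rw [mem_nonZeroDivisors_iff_right]
  intro z hz
  obtain ⟨a, b, rfl⟩ := exists_rep r z
  rw [mul_comm] at hz
  obtain ⟨ha, hb⟩ := rep_eq_zero r ((x_mul_rep r a b).symm.trans hz)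
  simp only [mul_eq_zero, PowerSeries.X_ne_zero, false_or] at ha hb
  simp [ha, hb]

theorem y_mem_nonZeroDivisors : ArSing.y k r ∈ nonZeroDivisors (ArSing.ring k r) := by
  rw [mem_nonZeroDivisors_iff_right]
  intro z hz
  obtain ⟨a, b, rfl⟩ := exists_rep r z
  rw [mul_comm] at hz
  obtain ⟨hb, ha⟩ := rep_eq_zero r ((y_mul_rep r a b).symm.trans hz)
  simp only [mul_eq_zero, pow_eq_zero_iff', PowerSeries.X_ne_zero, false_and, or_false] at hb
  simp [ha, hb]

/-- The length of a quotient is the dimension of the image of any linear map with the same kernel. -/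
theorem length_quot (I : Ideal (ArSing.ring k r)) {n : ℕ} (L : ArSing.ring k r →ₗ[k] (Fin n → k))
    (hL : Function.Surjective L) (hker : ∀ z, L z = 0 ↔ z ∈ I) :
    Module.length (ArSing.ring k r) (ArSing.ring k r ⧸ I) = n := by
  let e : (ArSing.ring k r ⧸ I) ≃ₗ[k] (Fin n → k) :=
    (Submodule.Quotient.restrictScalarsEquiv k (I : Submodule (ArSing.ring k r) (ArSing.ring k r))).symm ≪≫ₗ
      Submodule.quotEquivOfEq (I.restrictScalars k) (LinearMap.ker L)
        (Submodule.ext fun z => (hker z).symm) ≪≫ₗ L.quotKerEquivOfSurjective hL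
  haveI : Module.Finite k (ArSing.ring k r ⧸ I) := Module.Finite.equiv e.symm
  haveI : IsLocalHom (algebraMap k (ArSing.ring k r)) :=
    ⟨fun a ha => isUnit_iff_ne_zero.2 fun h0 => not_isUnit_zero (by rwa [h0, map_zero] at ha)⟩
  have h := IsLocalRing.length_restrictScalars k (ArSing.ring k r) (ArSing.ring k r ⧸ I)
  have hs : Function.Surjective (algebraMap (ResidueField k) (ResidueField (ArSing.ring k r))) := fun z => by
    obtain ⟨z, rfl⟩ := IsLocalRing.residue_surjective z
    refine ⟨residue k (aug r z), ?_⟩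
    show residue _ (algebraMap k (ArSing.ring k r) (aug r z)) = residue _ z
    rw [← sub_eq_zero, ← map_sub, IsLocalRing.residue_eq_zero_iff, mem_max_iff, map_sub,
      AlgHom.commutes, Algebra.algebraMap_self_apply, sub_self]
  rw [Module.length_eq_of_surjective (M := ResidueField (ArSing.ring k r)) hs] at h
  rw [Module.length_eq_finrank k, e.finrank_eq, Module.finrank_fin_fun,
    Module.length_eq_finrank (ResidueField (ArSing.ring k r)), Module.finrank_self, Nat.cast_one, mul_one] at h
  exact h.symm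

end Groth.Agent.ArSingLib
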