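import Mathlib
import Groth.Agent.ArSingLib.Invol

/-!
# The two branches of the node `k[[x, y]]/(y² - x²)`
-/

set_option autoImplicit false
set_option linter.style.haveILetI false

universe u

noncomputable section

namespace Groth.Agent.ArSingLib

open IsLocalRing

variable {k : Type u} [Field k]

/-- The branch `y = x`. -/
def brP : ArSing.ring k 1 →ₐ[k] PowerSeries k :=
  toPS 1 PowerSeries.X PowerSeries.X PowerSeries.constantCoeff_X rfl

/-- The branch `y = -x`. -/
def brQ : ArSing.ring k 1 →ₐ[k] PowerSeries k :=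
  toPS 1 PowerSeries.X (-PowerSeries.X) PowerSeries.constantCoeff_X (by ring)

@[simp] theorem brP_x : brP (ArSing.x k 1) = PowerSeries.X := toPS_x 1 _ _ _ _
@[simp] theorem brP_y : brP (ArSing.y k 1) = PowerSeries.X := toPS_y 1 _ _ _ _
@[simp] theorem brQ_x : brQ (ArSing.x k 1) = PowerSeries.X := toPS_x 1 _ _ _ _
@[simp] theorem brQ_y : brQ (ArSing.y k 1) = -PowerSeries.X := toPS_y 1 _ _ _ _

@[simp] theorem brP_xMap (a : PowerSeries k) : brP (ArSing.xMap k 1 a) = a :=
  DFunLike.congr_fun (psExt (f := brP.comp (ArSing.xMap k 1)) (g := AlgHom.id k _)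
    (by simp [PowerSeries.isUnit_iff_constantCoeff]) (by simp)) a

@[simp] theorem brQ_xMap (a : PowerSeries k) : brQ (ArSing.xMap k 1 a) = a :=
  DFunLike.congr_fun (psExt (f := brQ.comp (ArSing.xMap k 1)) (g := AlgHom.id k _)
    (by simp [PowerSeries.isUnit_iff_constantCoeff]) (by simp)) a

theorem brP_rep (a b : PowerSeries k) : brP (rep 1 a b) = a + b * PowerSeries.X := by simp [rep]

theorem brQ_rep (a b : PowerSeries k) : brQ (rep 1 a b) = a - b * PowerSeries.X := by
  simp [rep, sub_eq_add_neg]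

theorem br_injective (h2 : (2 : k) ≠ 0) {z w : ArSing.ring k 1} (hP : brP z = brP w) (hQ : brQ z = brQ w) :
    z = w := by
  obtain ⟨a, b, rfl⟩ := exists_rep 1 z
  obtain ⟨a', b', rfl⟩ := exists_rep 1 w
  rw [← rep, ← rep, brP_rep, brP_rep] at hP
  rw [← rep, ← rep, brQ_rep, brQ_rep] at hQ
  have h2' : (2 : PowerSeries k) ≠ 0 := by
    rw [← map_ofNat (PowerSeries.C (R := k)) 2]
    exact fun h => h2 (PowerSeries.C_injective (h.trans (map_zero _).symm))
  have ha : a = a' := mul_left_cancel₀ h2' (by linear_combination hP + hQ)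
  have hb : b = b' := mul_left_cancel₀ (mul_ne_zero h2' PowerSeries.X_ne_zero) (by linear_combination hP - hQ)
  rw [ha, hb]

theorem exists_glue (h2 : (2 : k) ≠ 0) (p q : PowerSeries k)
    (h : PowerSeries.constantCoeff p = PowerSeries.constantCoeff q) :
    ∃ z : ArSing.ring k 1, brP z = p ∧ brQ z = q := by
  obtain ⟨d, hd⟩ := PowerSeries.X_dvd_iff.2 (show PowerSeries.constantCoeff (p - q) = 0 by rw [map_sub, h, sub_self])
  let c : PowerSeries k := PowerSeries.C 2⁻¹
  have hc : 2 * c = 1 := by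
    rw [← map_ofNat (PowerSeries.C (R := k)) 2, ← map_mul, mul_inv_cancel₀ h2, map_one]
  refine ⟨rep 1 (c * (p + q)) (c * d), ?_, ?_⟩
  · rw [brP_rep]; linear_combination p * hc - c * hd
  · rw [brQ_rep]; linear_combination q * hc + c * hd

theorem br_const (z : ArSing.ring k 1) :
    PowerSeries.constantCoeff (brP z) = PowerSeries.constantCoeff (brQ z) := by
  obtain ⟨a, b, rfl⟩ := exists_rep 1 z
  rw [← rep, brP_rep, brQ_rep]; simp

theorem node_swap (h2 : (2 : k) ≠ 0)
    (σ : ArSing.ring k 1 ≃ₐ[k] ArSing.ring k 1) (hx : σ (ArSing.x k 1) = ArSing.y k 1)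
    (hy : σ (ArSing.y k 1) = ArSing.x k 1)
    (φ : ArSing.ring k 1 →ₐ[k] ArSing.ring k 1) (hφu : φ (ArSing.x k 1 + ArSing.y k 1) = ArSing.x k 1 + ArSing.y k 1)
    (hφv : φ (ArSing.y k 1 - ArSing.x k 1) = (ArSing.y k 1 - ArSing.x k 1) ^ 2) :
    (∀ a : ArSing.ring k 1, σ a = a ↔ a ∈ φ.range) ∧ Function.Injective φ ∧
    Ideal.span (Set.range fun a : ArSing.ring k 1 => σ a - a) = Ideal.span {ArSing.y k 1 - ArSing.x k 1} ∧
    (ArSing.y k 1 - ArSing.x k 1) ∉ nonZeroDivisors (ArSing.ring k 1) ∧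
    Ideal.span {ArSing.y k 1 - ArSing.x k 1} ∈ minimalPrimes (ArSing.ring k 1) ∧
    ¬ φ.toRingHom.Flat := by
  have hC2 : (2 : PowerSeries k) = PowerSeries.C 2 := (map_ofNat _ 2).symm
  have h2' : (2 : PowerSeries k) ≠ 0 := by
    rw [hC2]; exact fun h => h2 (PowerSeries.C_injective (h.trans (map_zero _).symm))
  have hσ : ∀ z, brP (σ z) = brP z ∧ brQ (σ z) = rsc (-1) (brQ z) := fun z =>
    ⟨DFunLike.congr_fun (ringExt 1 (f := brP.comp σ.toAlgHom) (g := brP)
      (by simp [hx, PowerSeries.isUnit_iff_constantCoeff]) (by simp [hx]) (by simp [hy])) z,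
     DFunLike.congr_fun (ringExt 1 (f := brQ.comp σ.toAlgHom) (g := (rsc (-1)).comp brQ)
      (by simp [hx, PowerSeries.isUnit_iff_constantCoeff]) (by simp [hx, rsc_X]) (by simp [hy, rsc_X])) z⟩
  have hPφx : brP (φ (ArSing.x k 1)) = PowerSeries.X ∧ brP (φ (ArSing.y k 1)) = PowerSeries.X := by
    have h1 := congrArg brP hφu
    have h3 := congrArg brP hφv
    simp only [map_add, map_sub, map_pow, brP_x, brP_y] at h1 h3
    exact ⟨mul_left_cancel₀ h2' (by linear_combination h1 - h3),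
      mul_left_cancel₀ h2' (by linear_combination h1 + h3)⟩
  let c : PowerSeries k := PowerSeries.C (-2) * PowerSeries.X ^ 2
  have hQφx : brQ (φ (ArSing.x k 1)) = c ∧ brQ (φ (ArSing.y k 1)) = -c := by
    have h1 := congrArg brQ hφu
    have h3 := congrArg brQ hφv
    simp only [map_add, map_sub, map_pow, brQ_x, brQ_y] at h1 h3
    have hc : c = -2 * PowerSeries.X ^ 2 := by simp only [c, map_neg, ← hC2]
    exact ⟨mul_left_cancel₀ h2' (by rw [hc]; linear_combination h1 - h3),
      mul_left_cancel₀ h2' (by rw [hc]; linear_combination h1 + h3)⟩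
  let S : PowerSeries k →ₐ[k] PowerSeries k := sq2.comp (rsc (-2))
  have hSX : S PowerSeries.X = c := by
    show sq2 (rsc (-2) PowerSeries.X) = c
    rw [rsc_X, map_mul, sq2_X, sq2, PowerSeries.expand_C]
  have hSinj : Function.Injective S := fun p q h => by
    have h' := congrArg (rsc (-2)⁻¹) (sq2_injective h)
    change PowerSeries.rescale (-2 : k)⁻¹ (PowerSeries.rescale (-2) p) =
      PowerSeries.rescale (-2 : k)⁻¹ (PowerSeries.rescale (-2) q) at h'
    simpa only [PowerSeries.rescale_rescale, mul_inv_cancel₀ (neg_ne_zero.2 h2),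
      PowerSeries.rescale_one, RingHom.id_apply] using h'
  have hφ : ∀ z, brP (φ z) = brP z ∧ brQ (φ z) = S (brQ z) := fun z =>
    ⟨DFunLike.congr_fun (ringExt 1 (f := brP.comp φ) (g := brP)
      (by simp [hPφx, PowerSeries.isUnit_iff_constantCoeff]) (by simp [hPφx]) (by simp [hPφx])) z,
     DFunLike.congr_fun (ringExt 1 (f := brQ.comp φ) (g := S.comp brQ)
      (by simp [hQφx, c, PowerSeries.isUnit_iff_constantCoeff]) (by simp [hQφx, hSX]) (by simp [hQφx, hSX])) z⟩
  have hfix : ∀ a, σ a = a ↔ a ∈ φ.range := by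
    intro a
    constructor
    · intro h
      obtain ⟨g, hg⟩ := exists_sq2_of_even h2 (f := brQ a) ((hσ a).2.symm.trans (congrArg brQ h))
      obtain ⟨z, hzP, hzQ⟩ := exists_glue h2 (brP a) (rsc (-2)⁻¹ g) (by
        rw [br_const, hg]
        simp)
      refine ⟨z, br_injective h2 ((hφ z).1.trans hzP) ?_⟩
      rw [AlgHom.toRingHom_eq_coe, RingHom.coe_coe, (hφ z).2, hzQ, hg]
      show sq2 (rsc (-2) (rsc (-2)⁻¹ g)) = _
      rw [rsc_apply, rsc_apply, PowerSeries.rescale_rescale, inv_mul_cancel₀ (neg_ne_zero.2 h2),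
        PowerSeries.rescale_one, RingHom.id_apply]
    · rintro ⟨z, rfl⟩
      rw [AlgHom.toRingHom_eq_coe, RingHom.coe_coe]
      refine br_injective h2 (hσ _).1 ?_
      rw [(hσ _).2, (hφ z).2]
      exact rsc_neg_sq2 _
  have hkerP : ∀ z : ArSing.ring k 1, brP z = 0 ↔ z ∈ Ideal.span {ArSing.y k 1 - ArSing.x k 1} := by
    intro z
    rw [Ideal.mem_span_singleton]
    constructor
    · intro hz
      have h0 : PowerSeries.constantCoeff (brQ z) = 0 := by rw [← br_const, hz, map_zero]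
      obtain ⟨q, hq⟩ := PowerSeries.X_dvd_iff.2 h0
      obtain ⟨w, -, hw⟩ := exists_glue h2 (PowerSeries.C (PowerSeries.constantCoeff (PowerSeries.C (-2 : k)⁻¹ * q)))
        (PowerSeries.C (-2 : k)⁻¹ * q) (by simp)
      refine ⟨w, br_injective h2 (by simp [hz]) ?_⟩
      have hc : (-2 : PowerSeries k) * PowerSeries.C (-2 : k)⁻¹ = 1 := by
        rw [hC2, ← map_neg, ← map_mul, mul_inv_cancel₀ (neg_ne_zero.2 h2), map_one]
      simp only [map_mul, map_sub, brQ_x, brQ_y, hw, hq]
      linear_combination (-PowerSeries.X * q) * hc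
    · rintro ⟨w, rfl⟩
      simp
  have hu0 : ArSing.x k 1 + ArSing.y k 1 ≠ 0 := fun h => by
    have := congrArg brP h
    simp only [map_add, brP_x, brP_y, map_zero, ← two_mul] at this
    exact mul_ne_zero h2' PowerSeries.X_ne_zero this
  have huv : (ArSing.x k 1 + ArSing.y k 1) * (ArSing.y k 1 - ArSing.x k 1) = 0 := by
    linear_combination y_sq (k := k) 1
  have hprime : (Ideal.span {ArSing.y k 1 - ArSing.x k 1}).IsPrime := by
    rw [show Ideal.span {ArSing.y k 1 - ArSing.x k 1} = RingHom.ker brP from Ideal.ext fun z => (hkerP z).symm]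
    exact RingHom.ker_isPrime _
  refine ⟨hfix, fun z w h => br_injective h2 ?_ (hSinj ?_), ?_, ?_, ?_, ?_⟩
  · rw [← (hφ z).1, h, (hφ w).1]
  · rw [← (hφ z).2, h, (hφ w).2]
  · refine le_antisymm (Ideal.span_le.2 ?_) ((Ideal.span_singleton_le_iff_mem _).2 (Ideal.subset_span
      ⟨ArSing.x k 1, by simp [hx]⟩))
    rintro _ ⟨a, rfl⟩
    exact (hkerP _).1 (by simp [(hσ a).1])
  · exact fun h => hu0 ((mem_nonZeroDivisors_iff_right.1 h) _ huv)
  · refine ⟨⟨hprime, bot_le⟩, fun Q ⟨hQ, _⟩ hQv => (Ideal.span_singleton_le_iff_mem _).2 ?_⟩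
    refine (hQ.mem_or_mem (huv ▸ zero_mem Q)).resolve_left fun hu => ?_
    have := (hkerP _).2 (hQv hu)
    simp only [map_add, brP_x, brP_y, ← two_mul] at this
    exact mul_ne_zero h2' PowerSeries.X_ne_zero this
  · intro hflat
    obtain ⟨n, a, y', hy', ha⟩ := exists_relation φ.toRingHom hflat
      (fun _ : Unit => ArSing.x k 1 + ArSing.y k 1) (fun _ : Unit => ArSing.y k 1 - ArSing.x k 1) (by
        rw [Fintype.sum_unique]
        show φ (ArSing.x k 1 + ArSing.y k 1) * (ArSing.y k 1 - ArSing.x k 1) = 0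
        rw [hφu, huv])
    have hQ : PowerSeries.X ^ 2 ∣ brQ (ArSing.y k 1 - ArSing.x k 1) := by
      rw [show ArSing.y k 1 - ArSing.x k 1 = ∑ j, φ (a () j) * y' j from hy' (), map_sum]
      refine Finset.dvd_sum fun j _ => ?_
      have h0 : brP (a () j) = 0 := by
        have h' : (ArSing.x k 1 + ArSing.y k 1) * a () j = 0 := by simpa using ha j
        have h'' := congrArg brP h'
        simp only [map_mul, map_add, brP_x, brP_y, map_zero, ← two_mul] at h''
        exact (mul_eq_zero.1 h'').resolve_left (mul_ne_zero h2' PowerSeries.X_ne_zero)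
      obtain ⟨w, hw⟩ := Ideal.mem_span_singleton.1 ((hkerP _).1 h0)
      rw [map_mul, hw, map_mul, hφv, map_mul, map_pow, map_sub, brQ_y, brQ_x]
      exact ⟨PowerSeries.C 4 * brQ (φ w) * brQ (y' j), by rw [map_ofNat]; ring⟩
    have h1 := PowerSeries.X_pow_dvd_iff.1 hQ 1 one_lt_two
    simp only [map_sub, brQ_x, brQ_y, map_neg, PowerSeries.coeff_one_X] at h1
    exact h2 (by linear_combination -h1)

end Groth.Agent.ArSingLib
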