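import Mathlib
import Groth.Agent.ArSingLib.Invol

/-!
# Invariants and fixed loci of the three standard involutions
-/

set_option autoImplicit false
set_option linter.style.haveILetI false

universe u

noncomputable section

namespace Groth.Agent.ArSingLib

open IsLocalRing

variable {k : Type u} [Field k] (r : ℕ)

theorem rep_smul (c : k) (a b : PowerSeries k) : c • rep r a b = rep r (c • a) (c • b) := by
  simp only [rep, map_smul, smul_add, smul_mul_assoc]

theorem rep_sub (a b a' b' : PowerSeries k) : rep r a b - rep r a' b' = rep r (a - a') (b - b') := by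
  simp only [rep, map_sub]; ring

theorem two_C (h2 : (2 : k) ≠ 0) : (2 : PowerSeries k) ≠ 0 := by
  rw [← map_ofNat (PowerSeries.C (R := k)) 2]
  exact fun h => h2 (PowerSeries.C_injective (h.trans (map_zero _).symm))

theorem neg_one_smul' (b : PowerSeries k) : (-1 : k) • b = -b := by rw [neg_smul, one_smul]

theorem std_y (h2 : (2 : k) ≠ 0)
    (σ : ArSing.ring k r ≃ₐ[k] ArSing.ring k r) (hx : σ (ArSing.x k r) = ArSing.x k r)
    (hy : σ (ArSing.y k r) = -ArSing.y k r) :
    (∀ a : ArSing.ring k r, σ a = a ↔ a ∈ (ArSing.xMap k r).range) ∧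
    ((ArSing.xMap k r).toRingHom.Flat ∧
      Ideal.map (ArSing.xMap k r) (IsLocalRing.maximalIdeal (PowerSeries k)) ≠ ⊤) ∧
    (∃ g : ArSing.ring k r, g ∈ nonZeroDivisors (ArSing.ring k r) ∧
      Ideal.span (Set.range fun a : ArSing.ring k r => σ a - a) = Ideal.span {g}) ∧
    Module.length (ArSing.ring k r)
      (ArSing.ring k r ⧸ Ideal.span (Set.range fun a : ArSing.ring k r => σ a - a)) = r + 1 := by
  have hσ : ∀ a b, σ (rep r a b) = rep r a (-b) := fun a b => by
    have h := apply_rep_sign r σ.toAlgHom 1 (-1) (by simp [hx]) (by simp [hy]) a b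
    rwa [rsc_one, rsc_one, neg_one_smul'] at h
  have hspan : Ideal.span (Set.range fun a : ArSing.ring k r => σ a - a) = Ideal.span {ArSing.y k r} := by
    refine le_antisymm (Ideal.span_le.2 ?_) ((Ideal.span_singleton_le_iff_mem _).2 ?_)
    · rintro _ ⟨z, rfl⟩
      obtain ⟨a, b, rfl⟩ := exists_rep r z
      show σ (rep r a b) - rep r a b ∈ _
      rw [hσ, rep_sub, sub_self, SetLike.mem_coe, Ideal.mem_span_singleton]
      exact ⟨rep r (-b - b) 0, by rw [y_mul_rep, zero_mul]⟩
    · have h : (σ (ArSing.y k r) - ArSing.y k r) * algebraMap k _ (-2 : k)⁻¹ = ArSing.y k r := by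
        rw [hy, show -ArSing.y k r - ArSing.y k r = algebraMap k _ (-2 : k) * ArSing.y k r by
            rw [map_neg, map_ofNat]; ring,
          mul_right_comm, ← map_mul, mul_inv_cancel₀ (neg_ne_zero.2 h2), map_one, one_mul]
      rw [← h]
      exact Ideal.mul_mem_right _ _ (Ideal.subset_span ⟨_, rfl⟩)
  refine ⟨fun z => ?_, ⟨?_, ?_⟩, ⟨_, y_mem_nonZeroDivisors r, hspan⟩, ?_⟩
  · constructor
    · intro h
      obtain ⟨a, b, rfl⟩ := exists_rep r z
      rw [← rep, hσ] at h
      have hb : b = 0 := mul_left_cancel₀ (two_C h2) (by linear_combination -(rep_unique r h).2)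
      exact ⟨a, by simp [hb]⟩
    · rintro ⟨a, rfl⟩
      rw [AlgHom.toRingHom_eq_coe, RingHom.coe_coe, xMap_eq_rep, hσ, neg_zero]
  · letI := (ArSing.xMap k r).toRingHom.toAlgebra
    let L : (PowerSeries k × PowerSeries k) →ₗ[PowerSeries k] ArSing.ring k r :=
      LinearMap.coprod (Algebra.linearMap _ _) (LinearMap.toSpanSingleton _ _ (ArSing.y k r))
    have hL : ∀ p, L p = rep r p.1 p.2 := fun p => rfl
    haveI : Module.Free (PowerSeries k) (ArSing.ring k r) :=
      Module.Free.of_equiv (LinearEquiv.ofBijective L ⟨fun p q h => by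
        rw [hL, hL] at h
        exact Prod.ext (rep_unique r h).1 (rep_unique r h).2, fun z => by
        obtain ⟨a, b, rfl⟩ := exists_rep r z
        exact ⟨(a, b), hL _⟩⟩)
    exact (inferInstance : Module.Flat (PowerSeries k) (ArSing.ring k r))
  · refine ne_top_of_le_ne_top (maximalIdeal.isMaximal _).ne_top (Ideal.map_le_iff_le_comap.2 fun a ha => ?_)
    rw [Ideal.mem_comap, mem_max_iff, aug_xMap]
    by_contra h
    exact ha (PowerSeries.isUnit_iff_constantCoeff.2 (isUnit_iff_ne_zero.2 h))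
  · rw [hspan]
    let L : ArSing.ring k r →ₗ[k] (Fin (r + 1) → k) :=
      (LinearMap.pi fun i : Fin (r + 1) => (PowerSeries.coeff (R := k) (i : ℕ)).comp (LinearMap.fst k _ (PowerSeries k))).comp
        (LinearEquiv.ofBijective
          ((ArSing.xMap k r).toLinearMap.coprod
            ((LinearMap.mulRight k (ArSing.y k r)).comp (ArSing.xMap k r).toLinearMap))
          ⟨fun p q h => Prod.ext (rep_unique r h).1 (rep_unique r h).2, fun z => by
            obtain ⟨a, b, rfl⟩ := exists_rep r z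
            exact ⟨(a, b), rfl⟩⟩).symm.toLinearMap
    have hL : ∀ a b i, L (rep r a b) i = PowerSeries.coeff (i : Fin (r + 1)).1 a := fun a b i => by
      simp only [L, LinearMap.comp_apply, LinearEquiv.coe_toLinearMap, LinearMap.pi_apply]
      rw [LinearEquiv.symm_apply_eq _ |>.2 (show rep r a b = _ from rfl : rep r a b = LinearEquiv.ofBijective _ _ (a, b))]
      rfl
    refine length_quot r _ L (fun v => ⟨rep r (PowerSeries.mk fun n => if h : n < r + 1 then v ⟨n, h⟩ else 0) 0,
      funext fun i => by rw [hL, PowerSeries.coeff_mk, dif_pos i.2]⟩) fun z => ?_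
    obtain ⟨a, b, rfl⟩ := exists_rep r z
    rw [← rep, Ideal.mem_span_singleton]
    constructor
    · intro h
      obtain ⟨d, rfl⟩ := PowerSeries.X_pow_dvd_iff.2 fun n hn => by
        have := congrFun h ⟨n, hn⟩
        rwa [hL] at this
      exact ⟨rep r b d, by rw [y_mul_rep, mul_comm d]⟩
    · rintro ⟨w, hw⟩
      obtain ⟨c, d, rfl⟩ := exists_rep r w
      rw [← rep, y_mul_rep] at hw
      funext i
      rw [hL, (rep_unique r hw).1]
      exact PowerSeries.X_pow_dvd_iff.1 (dvd_mul_left _ _) _ i.2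

/-- The map `(a, b) ↦ a + b y` is bijective. -/
def repEquiv : (PowerSeries k × PowerSeries k) ≃ₗ[k] ArSing.ring k r :=
  LinearEquiv.ofBijective
    ((ArSing.xMap k r).toLinearMap.coprod
      ((LinearMap.mulRight k (ArSing.y k r)).comp (ArSing.xMap k r).toLinearMap))
    ⟨fun p q h => Prod.ext (rep_unique r h).1 (rep_unique r h).2, fun z => by
      obtain ⟨a, b, rfl⟩ := exists_rep r z
      exact ⟨(a, b), rfl⟩⟩

theorem repEquiv_symm (a b : PowerSeries k) : (repEquiv r).symm (rep r a b) = (a, b) :=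
  (LinearEquiv.symm_apply_eq _).2 rfl

theorem decomp_sq2 (h2 : (2 : k) ≠ 0) (f : PowerSeries k) :
    ∃ u v : PowerSeries k, f = sq2 u + PowerSeries.X * sq2 v := by
  let c : PowerSeries k := PowerSeries.C 2⁻¹
  have hc : 2 * c = 1 := by
    rw [← map_ofNat (PowerSeries.C (R := k)) 2, ← map_mul, mul_inv_cancel₀ h2, map_one]
  have hr : ∀ g, rsc (-1 : k) (rsc (-1) g) = g := fun g => by
    rw [rsc_apply, rsc_apply, PowerSeries.rescale_rescale, neg_one_mul, neg_neg, PowerSeries.rescale_one,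
      RingHom.id_apply]
  have hrc : rsc (-1 : k) c = c := (rsc (-1)).commutes _
  obtain ⟨u, hu⟩ := exists_sq2_of_even h2 (f := c * (f + rsc (-1) f)) (by
    rw [map_mul, map_add, hr, hrc, add_comm])
  obtain ⟨v, hv⟩ := exists_sq2_of_odd h2 (f := c * (f - rsc (-1) f)) (by
    rw [map_mul, map_sub, hr, hrc, ← mul_neg, neg_sub])
  exact ⟨u, v, by linear_combination hu + hv - f * hc⟩

theorem decomp_unique (h2 : (2 : k) ≠ 0) {u v u' v' : PowerSeries k}
    (h : sq2 u + PowerSeries.X * sq2 v = sq2 u' + PowerSeries.X * sq2 v') : u = u' ∧ v = v' := by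
  have h' := congrArg (rsc (-1 : k)) h
  simp only [map_add, map_mul, rsc_neg_sq2, rsc_X, map_neg, map_one, neg_one_mul] at h'
  have hu : sq2 u = sq2 u' := mul_left_cancel₀ (two_C h2) (by linear_combination h + h')
  exact ⟨sq2_injective hu, sq2_injective (mul_left_cancel₀ PowerSeries.X_ne_zero (by linear_combination h - hu))⟩

theorem std_x (m : ℕ) (hm : 2 ≤ m) (hr : r = 2 * m - 1) (h2 : (2 : k) ≠ 0)
    (σ : ArSing.ring k r ≃ₐ[k] ArSing.ring k r) (hx : σ (ArSing.x k r) = -ArSing.x k r)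
    (hy : σ (ArSing.y k r) = ArSing.y k r)
    (φ : ArSing.ring k (m - 1) →ₐ[k] ArSing.ring k r) (hφx : φ (ArSing.x k (m - 1)) = ArSing.x k r ^ 2)
    (hφy : φ (ArSing.y k (m - 1)) = ArSing.y k r) :
    (∀ a : ArSing.ring k r, σ a = a ↔ a ∈ φ.range) ∧
    (φ.toRingHom.Flat ∧ ∀ I : Ideal (ArSing.ring k (m - 1)), I.IsMaximal → Ideal.map φ I ≠ ⊤) ∧
    (∃ g : ArSing.ring k r, g ∈ nonZeroDivisors (ArSing.ring k r) ∧ Ideal.span (Set.range fun a : ArSing.ring k r => σ a - a) = Ideal.span {g}) ∧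
    Module.length (ArSing.ring k r) (ArSing.ring k r ⧸ Ideal.span (Set.range fun a : ArSing.ring k r => σ a - a)) = 2 := by
  have hσ : ∀ a b, σ (rep r a b) = rep r (rsc (-1) a) (rsc (-1) b) := fun a b => by
    have h := apply_rep_sign r σ.toAlgHom (-1) 1 (by simp [hx]) (by simp [hy]) a b
    rwa [one_smul] at h
  have hφ : ∀ a b, φ (rep (m - 1) a b) = rep r (sq2 a) (sq2 b) := fun a b => by
    rw [apply_rep (m - 1) φ sq2 (by simp [sq2_X]) (by rw [hφx, sq2_X, map_pow, xMap_X]) a b, hφy]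
    rfl
  have hspan : Ideal.span (Set.range fun a : ArSing.ring k r => σ a - a) = Ideal.span {ArSing.x k r} := by
    refine le_antisymm (Ideal.span_le.2 ?_) ((Ideal.span_singleton_le_iff_mem _).2 ?_)
    · rintro _ ⟨z, rfl⟩
      obtain ⟨a, b, rfl⟩ := exists_rep r z
      show σ (rep r a b) - rep r a b ∈ _
      obtain ⟨a', ha⟩ := PowerSeries.X_dvd_iff.2 (show PowerSeries.constantCoeff (rsc (-1) a - a) = 0 by simp)
      obtain ⟨b', hb⟩ := PowerSeries.X_dvd_iff.2 (show PowerSeries.constantCoeff (rsc (-1) b - b) = 0 by simp)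
      rw [hσ, rep_sub, ha, hb, ← x_mul_rep, SetLike.mem_coe]
      exact Ideal.mul_mem_right _ _ (Ideal.mem_span_singleton_self _)
    · have h : (σ (ArSing.x k r) - ArSing.x k r) * algebraMap k _ (-2 : k)⁻¹ = ArSing.x k r := by
        rw [hx, show -ArSing.x k r - ArSing.x k r = algebraMap k _ (-2 : k) * ArSing.x k r by
            rw [map_neg, map_ofNat]; ring,
          mul_right_comm, ← map_mul, mul_inv_cancel₀ (neg_ne_zero.2 h2), map_one, one_mul]
      rw [← h]
      exact Ideal.mul_mem_right _ _ (Ideal.subset_span ⟨_, rfl⟩)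
  refine ⟨fun z => ?_, ⟨?_, fun I hI => ?_⟩, ⟨_, x_mem_nonZeroDivisors r, hspan⟩, ?_⟩
  · constructor
    · intro h
      obtain ⟨a, b, rfl⟩ := exists_rep r z
      rw [← rep, hσ] at h
      obtain ⟨u, rfl⟩ := exists_sq2_of_even h2 (rep_unique r h).1
      obtain ⟨v, rfl⟩ := exists_sq2_of_even h2 (rep_unique r h).2
      exact ⟨rep (m - 1) u v, hφ u v⟩
    · rintro ⟨w, rfl⟩
      obtain ⟨a, b, rfl⟩ := exists_rep (m - 1) w
      rw [AlgHom.toRingHom_eq_coe, RingHom.coe_coe, ← rep, hφ, hσ, rsc_neg_sq2, rsc_neg_sq2]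
  · letI := φ.toRingHom.toAlgebra
    let L : (ArSing.ring k (m - 1) × ArSing.ring k (m - 1)) →ₗ[ArSing.ring k (m - 1)] ArSing.ring k r :=
      LinearMap.coprod (Algebra.linearMap _ _) (LinearMap.toSpanSingleton _ _ (ArSing.x k r))
    have hL : ∀ a b c d, L (rep (m - 1) a b, rep (m - 1) c d) =
        rep r (sq2 a + PowerSeries.X * sq2 c) (sq2 b + PowerSeries.X * sq2 d) := fun a b c d => by
      show φ (rep (m - 1) a b) + φ (rep (m - 1) c d) * ArSing.x k r = _
      rw [hφ, hφ, mul_comm, x_mul_rep]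
      simp only [rep, map_add]; ring
    haveI : Module.Free (ArSing.ring k (m - 1)) (ArSing.ring k r) :=
      Module.Free.of_equiv (LinearEquiv.ofBijective L ⟨fun p q h => by
        obtain ⟨p₁, p₂⟩ := p
        obtain ⟨q₁, q₂⟩ := q
        obtain ⟨a, b, rfl⟩ := exists_rep (m - 1) p₁
        obtain ⟨c, d, rfl⟩ := exists_rep (m - 1) p₂
        obtain ⟨a', b', rfl⟩ := exists_rep (m - 1) q₁
        obtain ⟨c', d', rfl⟩ := exists_rep (m - 1) q₂
        rw [← rep, ← rep, ← rep, ← rep, hL, hL] at h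
        obtain ⟨h1, h3⟩ := rep_unique r h
        obtain ⟨rfl, rfl⟩ := decomp_unique h2 h1
        obtain ⟨rfl, rfl⟩ := decomp_unique h2 h3
        rfl, fun z => by
        obtain ⟨a, b, rfl⟩ := exists_rep r z
        obtain ⟨u, v, rfl⟩ := decomp_sq2 h2 a
        obtain ⟨u', v', rfl⟩ := decomp_sq2 h2 b
        exact ⟨(rep (m - 1) u u', rep (m - 1) v v'), hL _ _ _ _⟩⟩)
    exact (inferInstance : Module.Flat (ArSing.ring k (m - 1)) (ArSing.ring k r))
  · refine ne_top_of_le_ne_top (maximalIdeal.isMaximal _).ne_top (Ideal.map_le_iff_le_comap.2 fun w hw => ?_)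
    rw [IsLocalRing.eq_maximalIdeal hI] at hw
    obtain ⟨a, b, rfl⟩ := exists_rep (m - 1) w
    rw [← rep] at hw ⊢
    rw [Ideal.mem_comap, hφ, mem_max_rep, constantCoeff_sq2]
    exact (mem_max_rep _ a b).1 hw
  · rw [hspan]
    let C := PowerSeries.coeff (R := k) 0
    let L : ArSing.ring k r →ₗ[k] (Fin 2 → k) :=
      (LinearMap.pi ![C.comp (LinearMap.fst k _ (PowerSeries k)), C.comp (LinearMap.snd k (PowerSeries k) _)]).comp
        (repEquiv r).symm.toLinearMap
    have hL : ∀ a b, L (rep r a b) = ![PowerSeries.constantCoeff a, PowerSeries.constantCoeff b] := fun a b => by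
      funext i
      simp only [L, LinearMap.comp_apply, LinearEquiv.coe_toLinearMap, repEquiv_symm, LinearMap.pi_apply]
      fin_cases i <;> simp [C]
    rw [length_quot r _ L (fun v => ⟨rep r (PowerSeries.C (v 0)) (PowerSeries.C (v 1)), by
      rw [hL]; funext i; fin_cases i <;> simp⟩) fun z => ?_, Nat.cast_ofNat]
    obtain ⟨a, b, rfl⟩ := exists_rep r z
    rw [← rep, Ideal.mem_span_singleton, hL]
    constructor
    · intro h
      obtain ⟨a', rfl⟩ := PowerSeries.X_dvd_iff.2 (congrFun h 0)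
      obtain ⟨b', rfl⟩ := PowerSeries.X_dvd_iff.2 (congrFun h 1)
      exact ⟨rep r a' b', (x_mul_rep r a' b').symm⟩
    · rintro ⟨w, hw⟩
      obtain ⟨c, d, rfl⟩ := exists_rep r w
      rw [← rep, x_mul_rep] at hw
      obtain ⟨rfl, rfl⟩ := rep_unique r hw
      funext i; fin_cases i <;> simp

theorem std_xy (m : ℕ) (hm : 1 ≤ m) (hr : r = 2 * m - 1) (h2 : (2 : k) ≠ 0)
    (σ : ArSing.ring k r ≃ₐ[k] ArSing.ring k r) (hx : σ (ArSing.x k r) = -ArSing.x k r)
    (hy : σ (ArSing.y k r) = -ArSing.y k r)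
    (φ : ArSing.ring k m →ₐ[k] ArSing.ring k r) (hφx : φ (ArSing.x k m) = ArSing.x k r ^ 2)
    (hφy : φ (ArSing.y k m) = ArSing.x k r * ArSing.y k r) :
    (∀ a : ArSing.ring k r, σ a = a ↔ a ∈ φ.range) ∧ Function.Injective φ ∧
    ¬ φ.toRingHom.Flat ∧
    Module.length (ArSing.ring k r) (ArSing.ring k r ⧸ Ideal.span (Set.range fun a : ArSing.ring k r => σ a - a)) = 1 ∧
    ¬ (∃ g : ArSing.ring k r, g ∈ nonZeroDivisors (ArSing.ring k r) ∧ Ideal.span (Set.range fun a : ArSing.ring k r => σ a - a) = Ideal.span {g}) := by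
  have hσ : ∀ a b, σ (rep r a b) = rep r (rsc (-1) a) (-rsc (-1) b) := fun a b => by
    have h := apply_rep_sign r σ.toAlgHom (-1) (-1) (by simp [hx]) (by simp [hy]) a b
    rwa [neg_one_smul'] at h
  have hφ : ∀ a b, φ (rep m a b) = rep r (sq2 a) (PowerSeries.X * sq2 b) := fun a b => by
    rw [apply_rep m φ sq2 (by simp [sq2_X]) (by rw [hφx, sq2_X, map_pow, xMap_X]) a b, hφy, rep,
      map_mul, xMap_X]
    ring
  have hspan : Ideal.span (Set.range fun a : ArSing.ring k r => σ a - a) = maximalIdeal (ArSing.ring k r) := by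
    refine le_antisymm (Ideal.span_le.2 ?_) ?_
    · rintro _ ⟨z, rfl⟩
      show σ z - z ∈ _
      rw [SetLike.mem_coe]
      obtain ⟨a, b, rfl⟩ := exists_rep r z
      rw [← rep, hσ, rep_sub, mem_max_rep, map_sub, constantCoeff_rsc, sub_self]
    · rw [max_eq_span, Ideal.span_le]
      have h : ∀ t, σ t = -t → t ∈ Ideal.span (Set.range fun a : ArSing.ring k r => σ a - a) := fun t ht => by
        have e : (σ t - t) * algebraMap k _ (-2 : k)⁻¹ = t := by
          rw [ht, show -t - t = algebraMap k _ (-2 : k) * t by rw [map_neg, map_ofNat]; ring,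
            mul_right_comm, ← map_mul, mul_inv_cancel₀ (neg_ne_zero.2 h2), map_one, one_mul]
        rw [← e]
        exact Ideal.mul_mem_right _ _ (Ideal.subset_span ⟨_, rfl⟩)
      rintro t (rfl | rfl)
      exacts [h _ hx, h _ hy]
  have hinj : Function.Injective φ := fun z w h => by
    obtain ⟨a, b, rfl⟩ := exists_rep m z
    obtain ⟨a', b', rfl⟩ := exists_rep m w
    rw [← rep, ← rep, hφ, hφ] at h
    obtain ⟨h1, h3⟩ := rep_unique r h
    rw [sq2_injective h1, sq2_injective (mul_left_cancel₀ PowerSeries.X_ne_zero h3)]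
  refine ⟨fun z => ?_, hinj, ?_, ?_, ?_⟩
  · constructor
    · intro h
      obtain ⟨a, b, rfl⟩ := exists_rep r z
      rw [← rep, hσ] at h
      obtain ⟨u, rfl⟩ := exists_sq2_of_even h2 (rep_unique r h).1
      obtain ⟨v, rfl⟩ := exists_sq2_of_odd h2 (f := b) (by linear_combination -(rep_unique r h).2)
      exact ⟨rep m u v, hφ u v⟩
    · rintro ⟨w, rfl⟩
      obtain ⟨a, b, rfl⟩ := exists_rep m w
      rw [AlgHom.toRingHom_eq_coe, RingHom.coe_coe, ← rep, hφ, hσ, rsc_neg_sq2, map_mul, rsc_neg_sq2, rsc_X,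
        map_neg, map_one]
      congr 1
      ring
  · intro hflat
    obtain ⟨n, a, y', hy', ha⟩ := exists_relation φ.toRingHom hflat
      ![ArSing.y k m, -ArSing.x k m] ![ArSing.x k r, ArSing.y k r] (by
        rw [Fin.sum_univ_two]
        show φ (ArSing.y k m) * ArSing.x k r + φ (-ArSing.x k m) * ArSing.y k r = 0
        rw [hφy, map_neg, hφx]; ring)
    have hmem : ∀ j, φ (a 1 j) ∈ Ideal.span {ArSing.x k r} := fun j => by
      obtain ⟨c, d, hcd⟩ := exists_rep m (a 1 j)
      obtain ⟨e, f, hef⟩ := exists_rep m (a 0 j)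
      rw [← rep] at hcd hef
      have h := ha j
      rw [Fin.sum_univ_two] at h
      simp only [Matrix.cons_val_zero, Matrix.cons_val_one, neg_mul, hcd, hef] at h
      replace h : ArSing.y k m * rep m e f = ArSing.x k m * rep m c d := by linear_combination h
      rw [x_mul_rep, y_mul_rep] at h
      have hc : PowerSeries.constantCoeff c = 0 := by
        have h1 := congrArg (PowerSeries.coeff 1) (rep_unique m h).1
        rw [← pow_one PowerSeries.X, ← pow_mul, PowerSeries.coeff_mul_X_pow', PowerSeries.coeff_X_pow_mul',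
          if_neg (by omega), if_pos le_rfl, Nat.sub_self, PowerSeries.coeff_zero_eq_constantCoeff_apply] at h1
        exact h1.symm
      obtain ⟨c', rfl⟩ := PowerSeries.X_dvd_iff.2 hc
      rw [hcd, hφ, map_mul, sq2_X, Ideal.mem_span_singleton]
      exact ⟨rep r (PowerSeries.X * sq2 c') (sq2 d), by rw [x_mul_rep, ← mul_assoc, ← pow_two]⟩
    have hyx : ArSing.y k r ∈ Ideal.span {ArSing.x k r} := by
      rw [show ArSing.y k r = ∑ j, φ (a 1 j) * y' j from hy' 1]
      exact Ideal.sum_mem _ fun j _ => Ideal.mul_mem_right _ _ (hmem j)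
    obtain ⟨w, hw⟩ := Ideal.mem_span_singleton.1 hyx
    obtain ⟨c, d, rfl⟩ := exists_rep r w
    rw [← rep, x_mul_rep, y_eq_rep] at hw
    have := congrArg PowerSeries.constantCoeff (rep_unique r hw).2
    simp at this
  · rw [hspan, length_quot r _ (LinearMap.pi ![(aug r).toLinearMap]) (fun v => ⟨algebraMap k _ (v 0), by
      funext i; fin_cases i; simp⟩) fun z => ?_, Nat.cast_one]
    rw [mem_max_iff]
    exact ⟨fun h => congrFun h 0, fun h => funext fun i => by fin_cases i; exact h⟩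
  · rintro ⟨g, -, hg⟩
    rw [hspan] at hg
    have hgm : g ∈ maximalIdeal (ArSing.ring k r) := hg ▸ Ideal.mem_span_singleton_self g
    obtain ⟨a, b, rfl⟩ := exists_rep r g
    rw [← rep] at hgm hg
    have ha : PowerSeries.constantCoeff a = 0 := (mem_max_rep r a b).1 hgm
    obtain ⟨w, hw⟩ := Ideal.mem_span_singleton.1 (hg ▸ x_mem r)
    obtain ⟨w', hw'⟩ := Ideal.mem_span_singleton.1 (hg ▸ y_mem r)
    obtain ⟨c, d, rfl⟩ := exists_rep r w
    obtain ⟨c', d', rfl⟩ := exists_rep r w'
    rw [← rep, x_eq_rep] at hw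
    rw [← rep, y_eq_rep] at hw'
    simp only [rep] at hw hw'
    rw [rep_mul] at hw hw'
    obtain ⟨h1, h3⟩ := rep_unique r hw
    obtain ⟨h4, h5⟩ := rep_unique r hw'
    have e1 := congrArg (PowerSeries.coeff 1) h1
    have e3 := congrArg PowerSeries.constantCoeff h3
    have e5 := congrArg PowerSeries.constantCoeff h5
    simp only [map_add, map_mul, ha, zero_mul, zero_add, map_zero, map_one] at e3 e5
    have hb : PowerSeries.constantCoeff b ≠ 0 := fun h => by simp [h] at e5
    have hc : PowerSeries.constantCoeff c = 0 := (mul_eq_zero.1 e3.symm).resolve_right hb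
    rw [PowerSeries.coeff_one_X, map_add, PowerSeries.coeff_mul_X_pow', if_neg (by omega), add_zero,
      PowerSeries.coeff_one_mul, hc, ha] at e1
    simp at e1

end Groth.Agent.ArSingLib
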