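import Mathlib
import Groth.Agent.ArSingLib.Standard

/-!
# Coefficient estimates in `k[[x, y]]/(y² - x^(r+1))`
-/

set_option autoImplicit false
set_option linter.style.haveILetI false

universe u

noncomputable section

namespace Groth.Agent.ArSingLib

open IsLocalRing

variable {k : Type u} [Field k] (r : ℕ)

theorem rep_mul' (a b a' b' : PowerSeries k) :
    rep r a b * rep r a' b' =
      rep r (a * a' + b * b' * PowerSeries.X ^ (r + 1)) (a * b' + a' * b) :=
  rep_mul r a b a' b'

theorem rep_inj {a b a' b' : PowerSeries k} (h : rep r a b = rep r a' b') : a = a' ∧ b = b' :=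
  rep_unique r h

theorem exists_rep' (z : ArSing.ring k r) : ∃ a b, z = rep r a b := exists_rep r z

theorem aug_rep (a b : PowerSeries k) : aug r (rep r a b) = PowerSeries.constantCoeff a := by simp [rep]

/-- `rep a b` is a unit multiple of `x` modulo `y`. -/
def IsX (z : ArSing.ring k r) : Prop :=
  ∃ a b : PowerSeries k, z = rep r (PowerSeries.X * a) b ∧ PowerSeries.constantCoeff a = 1

/-- Powers of a coordinate. -/
theorem pow_isX (hr : 2 ≤ r) {z : ArSing.ring k r} (hz : IsX r z) : ∀ n, ∃ a b : PowerSeries k,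
    z ^ (n + 1) = rep r (PowerSeries.X ^ (n + 1) * a) (PowerSeries.X ^ n * b) ∧
      PowerSeries.constantCoeff a = 1 := by
  obtain ⟨za, zb, rfl, za0⟩ := hz
  intro n
  induction n with
  | zero => exact ⟨za, zb, by rw [pow_one, pow_zero, one_mul, zero_add, pow_one], za0⟩
  | succ n ih =>
    obtain ⟨a, b, h, ha⟩ := ih
    refine ⟨a * za + PowerSeries.X ^ (r - 1) * (b * zb), a * zb + za * b, ?_, ?_⟩
    · rw [pow_succ, h]
      conv_lhs => rw [rep_mul']
      congr 1
      · rw [show r + 1 = (r - 1) + 2 by omega]; ring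
      · ring
    · rw [map_add, map_mul, map_mul, ha, za0, map_pow, PowerSeries.constantCoeff_X,
        zero_pow (by omega), zero_mul, add_zero, one_mul]

theorem exists_mul_x_sq (hr : 2 ≤ r) {z : ArSing.ring k r} (hz : IsX r z) :
    ∃ w, z * w = ArSing.x k r ^ 2 := by
  obtain ⟨za, zb, rfl, za0⟩ := hz
  let u := za * za - zb * zb * PowerSeries.X ^ (r - 1)
  have hu : PowerSeries.constantCoeff u ≠ 0 := by
    simp only [u, map_sub, map_mul, za0, map_pow, PowerSeries.constantCoeff_X]
    rw [zero_pow (by omega), mul_zero, mul_one, sub_zero]; exact one_ne_zero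
  refine ⟨rep r (PowerSeries.X * za) (-zb) * ArSing.xMap k r u⁻¹, ?_⟩
  rw [← mul_assoc]
  conv_lhs => rw [rep_mul', xMap_eq_rep, rep_mul']
  rw [← xMap_X, ← map_pow, xMap_eq_rep]
  congr 1
  · have h := PowerSeries.mul_inv_cancel u hu
    calc (PowerSeries.X * za * (PowerSeries.X * za) + zb * -zb * PowerSeries.X ^ (r + 1)) * u⁻¹ +
          (PowerSeries.X * za * -zb + PowerSeries.X * za * zb) * 0 * PowerSeries.X ^ (r + 1)
        = PowerSeries.X ^ 2 * (u * u⁻¹) := by
          simp only [u]; rw [show r + 1 = (r - 1) + 2 by omega]; ring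
      _ = PowerSeries.X ^ 2 := by rw [h, mul_one]
  · ring

theorem isX_mem_nonZeroDivisors (hr : 2 ≤ r) {z : ArSing.ring k r} (hz : IsX r z) :
    z ∈ nonZeroDivisors (ArSing.ring k r) := by
  obtain ⟨w, hw⟩ := exists_mul_x_sq r hr hz
  have h : z * w ∈ nonZeroDivisors (ArSing.ring k r) := hw ▸ pow_mem (x_mem_nonZeroDivisors r) 2
  exact (mul_mem_nonZeroDivisors.1 h).1

theorem isX_mem_max {z : ArSing.ring k r} (hz : IsX r z) : z ∈ maximalIdeal (ArSing.ring k r) := by
  obtain ⟨za, zb, rfl, za0⟩ := hz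
  rw [mem_max_rep]; simp

end Groth.Agent.ArSingLib
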