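import Mathlib
import Groth.Agent.ArSingLib.Invol

/-!
# Automorphisms and involutions of `k[[X]]`
-/

set_option autoImplicit false
set_option linter.style.haveILetI false

universe u

noncomputable section

namespace Groth.Agent.ArSingLib

open IsLocalRing

variable {k : Type u} [Field k]

/-- The map `k[[X]] → A_r` sending `X` to a given element of the maximal ideal. -/
theorem exists_psTo (r : ℕ) (z : ArSing.ring k r) (hz : z ∈ maximalIdeal (ArSing.ring k r)) :
    ∃ h : PowerSeries k →ₐ[k] ArSing.ring k r, h PowerSeries.X = z := by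
  obtain ⟨Z, rfl⟩ := Ideal.Quotient.mk_surjective z
  rw [mem_max_iff, aug_mk] at hz
  refine ⟨(Ideal.Quotient.mkₐ k (Ideal.span {ArSing.eqn k r})).comp
    (PowerSeries.substAlgHom (PowerSeries.HasSubst.of_constantCoeff_zero hz)), ?_⟩
  show Ideal.Quotient.mk _ (PowerSeries.substAlgHom (PowerSeries.HasSubst.of_constantCoeff_zero hz) PowerSeries.X) = _
  rw [PowerSeries.substAlgHom_X]

theorem mem_max_PS {f : PowerSeries k} : f ∈ maximalIdeal (PowerSeries k) ↔ PowerSeries.constantCoeff f = 0 := by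
  rw [mem_maximalIdeal, mem_nonunits_iff, PowerSeries.isUnit_iff_constantCoeff, isUnit_iff_ne_zero, not_not]

/-- The automorphism of `k[[X]]` given by a coordinate. -/
theorem exists_psAut (u : PowerSeries k) (h0 : PowerSeries.constantCoeff u = 0)
    (h1 : PowerSeries.coeff 1 u ≠ 0) : ∃ e : PowerSeries k ≃ₐ[k] PowerSeries k, e PowerSeries.X = u := by
  have h1' : IsUnit (PowerSeries.coeff 1 u) := isUnit_iff_ne_zero.2 h1
  let v := u.substInvOfIsUnit h1'
  let f : PowerSeries k →ₐ[k] PowerSeries k :=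
    PowerSeries.substAlgHom (PowerSeries.HasSubst.of_constantCoeff_zero' h0)
  let g : PowerSeries k →ₐ[k] PowerSeries k :=
    PowerSeries.substAlgHom (PowerSeries.HasSubst.substInvOfIsUnit u h1')
  have hf : f PowerSeries.X = u := PowerSeries.substAlgHom_X _
  have hg : g PowerSeries.X = v := PowerSeries.substAlgHom_X _
  have hfv : f v = PowerSeries.X := by
    simp only [f, PowerSeries.coe_substAlgHom]
    exact PowerSeries.subst_substInvOfIsUnit_left u h0 h1'
  have hgu : g u = PowerSeries.X := by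
    simp only [g, PowerSeries.coe_substAlgHom]
    exact PowerSeries.subst_substInvOfIsUnit_right u h0 h1'
  have hX : PowerSeries.constantCoeff (PowerSeries.X : PowerSeries k) = 0 := PowerSeries.constantCoeff_X
  refine ⟨AlgEquiv.ofAlgHom f g ?_ ?_, hf⟩
  · exact psExt (mem_max_PS.2 (by rw [AlgHom.comp_apply, hg, hfv]; exact hX))
      (by rw [AlgHom.comp_apply, hg, hfv]; rfl)
  · exact psExt (mem_max_PS.2 (by rw [AlgHom.comp_apply, hf, hgu]; exact hX))
      (by rw [AlgHom.comp_apply, hf, hgu]; rfl)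

theorem ps_linearize (h2 : (2 : k) ≠ 0)
    (σ : PowerSeries k ≃ₐ[k] PowerSeries k) (hσ : ∀ f, σ (σ f) = f) :
    (PowerSeries.coeff 1 (σ PowerSeries.X)) ^ 2 = 1 ∧
    ∃ φ : PowerSeries k ≃ₐ[k] PowerSeries k,
      φ PowerSeries.X = PowerSeries.C (2⁻¹ : k) *
        (PowerSeries.X + PowerSeries.C (PowerSeries.coeff 1 (σ PowerSeries.X)) * σ PowerSeries.X) ∧
      ∀ f, φ.symm (σ (φ f)) = PowerSeries.rescale (PowerSeries.coeff 1 (σ PowerSeries.X)) f := by
  have hσm : ∀ f, PowerSeries.constantCoeff f = 0 → PowerSeries.constantCoeff (σ f) = 0 := fun f hf =>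
    mem_max_PS.1 fun hu => (mem_max_PS.2 hf) (by simpa [hσ] using hu.map σ)
  have hC : ∀ c, σ (PowerSeries.C c) = PowerSeries.C c := fun c => σ.commutes c
  obtain ⟨q, hq⟩ := PowerSeries.X_dvd_iff.2 (hσm _ PowerSeries.constantCoeff_X)
  set ξ := PowerSeries.coeff 1 (σ PowerSeries.X) with hξ
  have hξq : PowerSeries.constantCoeff q = ξ := by
    rw [hξ, hq, PowerSeries.coeff_succ_X_mul, PowerSeries.coeff_zero_eq_constantCoeff_apply]
  have hξ2 : ξ ^ 2 = 1 := by
    have h := congrArg σ hq
    rw [hσ, map_mul, hq, mul_assoc] at h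
    have h' : q * σ q = 1 := mul_left_cancel₀ PowerSeries.X_ne_zero (by rw [mul_one]; exact h.symm)
    have hcq : PowerSeries.constantCoeff (σ q) = ξ := by
      have := hσm (q - PowerSeries.C ξ) (by simp [hξq])
      simpa [hC, sub_eq_zero] using this
    simpa [hξq, hcq, pow_two] using congrArg PowerSeries.constantCoeff h'
  refine ⟨hξ2, ?_⟩
  obtain ⟨φ, hφ⟩ := exists_psAut (PowerSeries.C (2⁻¹ : k) * (PowerSeries.X + PowerSeries.C ξ * σ PowerSeries.X))
    (by simp [hσm]) (by
      rw [PowerSeries.coeff_C_mul, map_add, PowerSeries.coeff_C_mul, PowerSeries.coeff_one_X, ← hξ, ← pow_two, hξ2,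
        one_add_one_eq_two, inv_mul_cancel₀ h2]
      exact one_ne_zero)
  refine ⟨φ, hφ, fun f => ?_⟩
  have key : σ.toAlgHom.comp φ.toAlgHom = φ.toAlgHom.comp (rsc ξ) := by
    refine psExt (mem_max_PS.2 ?_) ?_
    · show PowerSeries.constantCoeff (σ (φ PowerSeries.X)) = 0
      rw [hφ]
      exact hσm _ (by simp [hσm])
    · show σ (φ PowerSeries.X) = φ (rsc ξ PowerSeries.X)
      rw [rsc_X, map_mul φ, show φ (PowerSeries.C ξ) = PowerSeries.C ξ from φ.commutes ξ, hφ, map_mul, map_add,
        map_mul, hC, hC, hσ]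
      have : PowerSeries.C ξ * PowerSeries.C ξ = (1 : PowerSeries k) := by rw [← map_mul, ← pow_two, hξ2, map_one]
      linear_combination -(PowerSeries.C (2⁻¹ : k) * σ PowerSeries.X) * this
  have := DFunLike.congr_fun key f
  rw [AlgEquiv.symm_apply_eq]
  exact this

end Groth.Agent.ArSingLib
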