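import Mathlib
import Groth.Agent.ArSingLib.Order
import Groth.Agent.ArSingLib.PSInvol

/-!
# Involutions of `k[[x, y]]/(y² - x^(r+1))`, `r ≥ 2`
-/

set_option autoImplicit false
set_option linter.style.haveILetI false

universe u

noncomputable section

namespace Groth.Agent.ArSingLib

open IsLocalRing

variable {k : Type u} [Field k] (r : ℕ)

theorem exists_leading (hr : 2 ≤ r) {x' : ArSing.ring k r} (hx' : IsX r x')
    (h : PowerSeries k →ₐ[k] ArSing.ring k r) (hh : h PowerSeries.X = x') (U : PowerSeries k) (N : ℕ) :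
    ∃ a b : PowerSeries k, h (PowerSeries.X ^ (N + 1) * U) =
      rep r (PowerSeries.X ^ (N + 1) * a) (PowerSeries.X ^ N * b) ∧
        PowerSeries.constantCoeff a = PowerSeries.constantCoeff U := by
  obtain ⟨c, d, hc, hc0⟩ := pow_isX r hr hx' N
  obtain ⟨s, t, hst⟩ := exists_rep' r (h U)
  have hs : PowerSeries.constantCoeff s = PowerSeries.constantCoeff U := by
    obtain ⟨U', hU'⟩ := PowerSeries.X_dvd_iff.2
      (show PowerSeries.constantCoeff (U - PowerSeries.C (PowerSeries.constantCoeff U)) = 0 by simp)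
    have e : h U = PowerSeries.constantCoeff U • 1 + x' * h U' := by
      rw [sub_eq_iff_eq_add'] at hU'
      conv_lhs => rw [hU', map_add, map_mul, hh]
      rw [show h (PowerSeries.C (PowerSeries.constantCoeff U)) =
        algebraMap k _ (PowerSeries.constantCoeff U) from h.commutes _, Algebra.algebraMap_eq_smul_one]
    have := congrArg (aug r) e
    rw [hst, aug_rep, map_add, map_mul, (mem_max_iff r x').1 (isX_mem_max r hx'), zero_mul, add_zero] at this
    rw [this, map_smul, map_one, smul_eq_mul, mul_one]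
  refine ⟨c * s + PowerSeries.X ^ r * (d * t),
    PowerSeries.X * (c * t) + s * d, ?_, ?_⟩
  · rw [map_mul, map_pow, hh, hc, hst, rep_mul']
    congr 1
    · ring
    · ring
  · simp [hc0, hs, show r ≠ 0 by omega]

/-- The tangent map of an involution is triangular. -/
theorem tangent (hr : 2 ≤ r) (σ : ArSing.ring k r ≃ₐ[k] ArSing.ring k r) (hσ : ∀ a, σ (σ a) = a) :
    ∃ A' B C'' D : PowerSeries k, σ (ArSing.x k r) = rep r (PowerSeries.X * A') B ∧
      σ (ArSing.y k r) = rep r (PowerSeries.X * (PowerSeries.X * C'')) D ∧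
      PowerSeries.constantCoeff A' ^ 2 = 1 ∧ PowerSeries.constantCoeff D ^ 2 = 1 := by
  have hσm : ∀ z, z ∈ maximalIdeal (ArSing.ring k r) → σ z ∈ maximalIdeal (ArSing.ring k r) := fun z hz hu =>
    hz (by simpa [hσ] using hu.map σ)
  obtain ⟨A, B, hA⟩ := exists_rep' r (σ (ArSing.x k r))
  obtain ⟨C, D, hC⟩ := exists_rep' r (σ (ArSing.y k r))
  have hA0 : PowerSeries.constantCoeff A = 0 := (mem_max_rep r A B).1 (hA ▸ hσm _ (x_mem r))
  have hC0 : PowerSeries.constantCoeff C = 0 := (mem_max_rep r C D).1 (hC ▸ hσm _ (y_mem r))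
  obtain ⟨A', rfl⟩ := PowerSeries.X_dvd_iff.2 hA0
  obtain ⟨C', rfl⟩ := PowerSeries.X_dvd_iff.2 hC0
  -- tangent map is triangular
  have hC'0 : PowerSeries.constantCoeff C' = 0 := by
    have hp : ∀ n, ∃ a b : PowerSeries k,
        rep r (PowerSeries.X * A') B ^ (n + 1) = rep r (PowerSeries.X ^ (n + 1) * a) (PowerSeries.X ^ n * b) := by
      intro n
      induction n with
      | zero => exact ⟨A', B, by rw [pow_one, pow_zero, one_mul, zero_add, pow_one]⟩
      | succ n ih =>
        obtain ⟨a, b, h⟩ := ih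
        refine ⟨a * A' + PowerSeries.X ^ (r - 1) * (b * B), a * B + A' * b, ?_⟩
        rw [pow_succ, h, rep_mul']
        congr 1
        · rw [show r + 1 = (r - 1) + 2 by omega]; ring
        · ring
    obtain ⟨a, b, hab⟩ := hp r
    have h := congrArg σ (y_sq (k := k) r)
    rw [map_pow, map_pow, hA, hC, hab, pow_two, rep_mul'] at h
    have h1 := congrArg (PowerSeries.coeff 2) (rep_inj r h).1
    have e : PowerSeries.X * C' * (PowerSeries.X * C') = PowerSeries.X ^ 2 * (C' * C') := by ring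
    rw [e, map_add, PowerSeries.coeff_X_pow_mul', PowerSeries.coeff_mul_X_pow', PowerSeries.coeff_X_pow_mul',
      if_pos le_rfl, if_neg (by omega), if_neg (by omega), add_zero, Nat.sub_self,
      PowerSeries.coeff_zero_eq_constantCoeff_apply, map_mul] at h1
    exact mul_self_eq_zero.1 h1
  obtain ⟨C'', rfl⟩ := PowerSeries.X_dvd_iff.2 hC'0
  set l := PowerSeries.constantCoeff A' with hl
  set ν := PowerSeries.constantCoeff D with hν
  have hσmul : ∀ w, σ (ArSing.x k r * w) = rep r (PowerSeries.X * A') B * σ w := fun w => by rw [map_mul, hA]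
  obtain ⟨gA, hgA⟩ : ∃ g : PowerSeries k →ₐ[k] ArSing.ring k r, g = σ.toAlgHom.comp (ArSing.xMap k r) := ⟨_, rfl⟩
  have hgA0 : ∀ f, aug r (gA f) = PowerSeries.constantCoeff f := fun f => by
    obtain ⟨f', hf'⟩ := PowerSeries.X_dvd_iff.2
      (show PowerSeries.constantCoeff (f - PowerSeries.C (PowerSeries.constantCoeff f)) = 0 by simp)
    rw [sub_eq_iff_eq_add'] at hf'
    conv_lhs => rw [hf', map_add, map_mul, show gA (PowerSeries.C (PowerSeries.constantCoeff f)) =
      algebraMap k _ _ from gA.commutes _, map_add, AlgHom.commutes, map_mul]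
    rw [show aug r (gA PowerSeries.X) = 0 by
      rw [hgA]; show aug r (σ (ArSing.xMap k r PowerSeries.X)) = 0
      rw [xMap_X]; exact (mem_max_iff r _).1 (hσm _ (x_mem r))]
    simp
  have hσrep : ∀ a b, σ (rep r a b) = gA a + gA b * rep r (PowerSeries.X * (PowerSeries.X * C'')) D := fun a b => by
    rw [rep, map_add, map_mul, hC, hgA]; rfl
  have hgAX : ∀ f, gA (PowerSeries.X * f) = rep r (PowerSeries.X * A') B * gA f := fun f => by
    rw [map_mul, hgA]
    show σ (ArSing.xMap k r PowerSeries.X) * _ = _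
    rw [xMap_X, hA]
  have hinv := hσ (ArSing.x k r)
  rw [hA, hσrep, hgAX] at hinv
  obtain ⟨a₁, b₁, e₁⟩ := exists_rep' r (gA A')
  obtain ⟨a₂, b₂, e₂⟩ := exists_rep' r (gA B)
  have ha₁ : PowerSeries.constantCoeff a₁ = l := by rw [← aug_rep r a₁ b₁, ← e₁, hgA0]
  rw [e₁, e₂, rep_mul', rep_mul', x_eq_rep] at hinv
  have hll : l ^ 2 = 1 := by
    have h' : rep r (PowerSeries.X * A' * a₁ + B * b₁ * PowerSeries.X ^ (r + 1) +
          (a₂ * (PowerSeries.X * (PowerSeries.X * C'')) + b₂ * D * PowerSeries.X ^ (r + 1)))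
          (PowerSeries.X * A' * b₁ + a₁ * B + (a₂ * D + PowerSeries.X * (PowerSeries.X * C'') * b₂)) =
        rep r PowerSeries.X 0 := by
      rw [← hinv]; simp only [rep, map_add]; ring
    have h := congrArg (PowerSeries.coeff 1) (rep_inj r h').1
    have e : PowerSeries.X * A' * a₁ + B * b₁ * PowerSeries.X ^ (r + 1) +
          (a₂ * (PowerSeries.X * (PowerSeries.X * C'')) + b₂ * D * PowerSeries.X ^ (r + 1)) =
        PowerSeries.X * (A' * a₁ + PowerSeries.X * (B * b₁ * PowerSeries.X ^ (r - 1) + a₂ * C'' +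
          b₂ * D * PowerSeries.X ^ (r - 1))) := by
      rw [show r + 1 = (r - 1) + 2 by omega]; ring
    rw [e, PowerSeries.coeff_succ_X_mul, PowerSeries.coeff_zero_eq_constantCoeff_apply, map_add, map_mul,
      map_mul, PowerSeries.constantCoeff_X, zero_mul, add_zero, ha₁, ← hl, PowerSeries.coeff_one_X] at h
    rw [pow_two, h]
  have hνν : ν ^ 2 = 1 := by
    have h := hσ (ArSing.y k r)
    rw [hC, hσrep, hgAX, hgAX] at h
    obtain ⟨a₃, b₃, e₃⟩ := exists_rep' r (gA C'')
    obtain ⟨a₄, b₄, e₄⟩ := exists_rep' r (gA D)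
    have ha₄ : PowerSeries.constantCoeff a₄ = ν := by rw [← aug_rep r a₄ b₄, ← e₄, hgA0]
    rw [e₃, e₄, rep_mul', rep_mul', rep_mul', y_eq_rep] at h
    have h' : rep r (PowerSeries.X * A' * (PowerSeries.X * A' * a₃ + B * b₃ * PowerSeries.X ^ (r + 1)) +
          B * (PowerSeries.X * A' * b₃ + a₃ * B) * PowerSeries.X ^ (r + 1) +
          (a₄ * (PowerSeries.X * (PowerSeries.X * C'')) + b₄ * D * PowerSeries.X ^ (r + 1)))
        (PowerSeries.X * A' * (PowerSeries.X * A' * b₃ + a₃ * B) +
          (PowerSeries.X * A' * a₃ + B * b₃ * PowerSeries.X ^ (r + 1)) * B +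
          (a₄ * D + PowerSeries.X * (PowerSeries.X * C'') * b₄)) = rep r 0 1 := by
      rw [← h]; simp only [rep, map_add]; ring
    have h0 := congrArg PowerSeries.constantCoeff (rep_inj r h').2
    simp [ha₄, ← hν] at h0
    rw [pow_two, h0]
  exact ⟨A', B, C'', D, hA, hC, hll, hνν⟩

/-- `A` is free on `1, y'` over `k[[x']]`. -/
theorem free_span (hr : 2 ≤ r) {x' y' : ArSing.ring k r} {za zb c₀ d₀ : PowerSeries k}
    (hz : x' = rep r (PowerSeries.X * za) zb) (hza : PowerSeries.constantCoeff za = 1)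
    (hy'eq : y' = rep r (PowerSeries.X ^ 2 * c₀) d₀) (hd₀ : PowerSeries.constantCoeff d₀ = 1)
    (h : PowerSeries k →ₐ[k] ArSing.ring k r) (hh : h PowerSeries.X = x') :
    ∀ z, ∃ p q : PowerSeries k, z = h p + h q * y' := by
  classical
  have hx'X : IsX r x' := ⟨za, zb, hz, hza⟩
  have hC1 : ∀ c : k, algebraMap k (ArSing.ring k r) c = rep r (PowerSeries.C c) 0 := fun c => by
    rw [← xMap_eq_rep]; exact ((ArSing.xMap k r).commutes c).symm
  have step : ∀ z, ∃ (c d : k) (w : ArSing.ring k r),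
      z = algebraMap k _ c + algebraMap k _ d * y' + x' * w := fun z => by
    obtain ⟨a, b, rfl⟩ := exists_rep' r z
    obtain ⟨w2, hw2⟩ := exists_mul_x_sq r hr hx'X
    refine ⟨PowerSeries.constantCoeff a,
      PowerSeries.constantCoeff b - PowerSeries.coeff 1 a * PowerSeries.constantCoeff zb, ?_⟩
    set d := PowerSeries.constantCoeff b - PowerSeries.coeff 1 a * PowerSeries.constantCoeff zb
    let e := PowerSeries.coeff 1 a
    obtain ⟨a₂', ha₂'⟩ : (PowerSeries.X : PowerSeries k) ^ 2 ∣ a - PowerSeries.C (PowerSeries.constantCoeff a) -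
        PowerSeries.C d * (PowerSeries.X ^ 2 * c₀) - PowerSeries.C e * (PowerSeries.X * za) := by
      rw [PowerSeries.X_pow_dvd_iff]
      intro n hn
      interval_cases n
      · simp
      · simp only [map_sub, PowerSeries.coeff_C_mul, PowerSeries.coeff_succ_X_mul,
          PowerSeries.coeff_zero_eq_constantCoeff_apply, hza, PowerSeries.coeff_C, PowerSeries.coeff_X_pow_mul']
        simp [e]
    obtain ⟨b₂', hb₂'⟩ : (PowerSeries.X : PowerSeries k) ∣ b - PowerSeries.C d * d₀ - PowerSeries.C e * zb := by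
      rw [PowerSeries.X_dvd_iff]; simp [d, e, hd₀]
    let I := Ideal.span ({x'} : Set (ArSing.ring k r))
    have hx2 : ArSing.x k r ^ 2 ∈ I := Ideal.mem_span_singleton.2 ⟨w2, hw2.symm⟩
    have hX2 : ∀ t, ArSing.xMap k r (PowerSeries.X ^ 2 * t) ∈ I := fun t => by
      rw [map_mul, map_pow, xMap_X]; exact Ideal.mul_mem_right _ _ hx2
    have hyy : ArSing.y k r * ArSing.y k r ∈ I := by
      rw [y_sq', show r + 1 = 2 + (r - 1) by omega, pow_add]; exact hX2 _
    have hxy : ArSing.x k r * ArSing.y k r ∈ I := by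
      have h1 : ArSing.xMap k r za * ArSing.xMap k r za⁻¹ = 1 := by
        rw [← map_mul, PowerSeries.mul_inv_cancel za (by rw [hza]; exact one_ne_zero), map_one]
      have h3 : x' * ArSing.y k r - ArSing.xMap k r zb * (ArSing.y k r * ArSing.y k r) =
          ArSing.xMap k r za * (ArSing.x k r * ArSing.y k r) := by
        rw [hz, rep, map_mul, xMap_X]; ring
      have h4 : ArSing.xMap k r za * (ArSing.x k r * ArSing.y k r) ∈ I := h3 ▸ sub_mem
        (Ideal.mul_mem_right _ _ (Ideal.mem_span_singleton_self x')) (Ideal.mul_mem_left _ _ hyy)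
      have h5 := Ideal.mul_mem_left _ (ArSing.xMap k r za⁻¹) h4
      rwa [← mul_assoc, mul_comm (ArSing.xMap k r za⁻¹), h1, one_mul] at h5
    have hmem : rep r a b - (algebraMap k _ (PowerSeries.constantCoeff a) + algebraMap k _ d * y') ∈ I := by
      have ea := congrArg (ArSing.xMap k r) ha₂'
      have eb := congrArg (ArSing.xMap k r) hb₂'
      have key : rep r a b - (algebraMap k _ (PowerSeries.constantCoeff a) + algebraMap k _ d * y') =
          ArSing.xMap k r (PowerSeries.X ^ 2 * a₂') + ArSing.xMap k r b₂' * (ArSing.x k r * ArSing.y k r) +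
            ArSing.xMap k r (PowerSeries.C e) * x' := by
        simp only [map_sub, map_mul, map_pow, xMap_X] at ea eb
        rw [hy'eq, hz]
        simp only [hC1, rep, map_zero, zero_mul, add_zero, map_mul, map_pow, xMap_X]
        linear_combination ea + eb * ArSing.y k r
      rw [key]
      exact add_mem (add_mem (hX2 _) (Ideal.mul_mem_left _ _ hxy))
        (Ideal.mul_mem_left _ _ (Ideal.mem_span_singleton_self x'))
    obtain ⟨w, hw⟩ := Ideal.mem_span_singleton.1 hmem
    exact ⟨w, by rw [← hw]; ring⟩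
  have exist : ∀ z, ∃ p q : PowerSeries k, z = h p + h q * y' := fun z => by
    choose c d w hw using step
    let Z : ℕ → ArSing.ring k r := fun n => w^[n] z
    let p : PowerSeries k := PowerSeries.mk fun n => c (Z n)
    let q : PowerSeries k := PowerSeries.mk fun n => d (Z n)
    refine ⟨p, q, ?_⟩
    have hn : ∀ n, z = h (PowerSeries.trunc n p : PowerSeries k) + h (PowerSeries.trunc n q : PowerSeries k) * y' +
        x' ^ n * Z n := by
      intro n
      induction n with
      | zero => simp [Z]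
      | succ n ih =>
        rw [ih, hw (Z n), show Z (n + 1) = w (Z n) from Function.iterate_succ_apply' w n z,
          PowerSeries.trunc_succ, PowerSeries.trunc_succ, Polynomial.coe_add, Polynomial.coe_add,
          Polynomial.coe_monomial, Polynomial.coe_monomial, map_add, map_add, PowerSeries.monomial_eq_C_mul_X_pow,
          PowerSeries.monomial_eq_C_mul_X_pow, map_mul, map_mul, map_pow, hh, PowerSeries.coeff_mk,
          PowerSeries.coeff_mk, show h (PowerSeries.C (c (Z n))) = algebraMap k _ (c (Z n)) from h.commutes _,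
          show h (PowerSeries.C (d (Z n))) = algebraMap k _ (d (Z n)) from h.commutes _]
        ring
    haveI := IsHausdorff.of_isLocalRing (M := ArSing.ring k r) (maximalIdeal (ArSing.ring k r))
      (maximalIdeal.isMaximal _).ne_top
    refine (IsHausdorff.eq_iff_smodEq (I := maximalIdeal (ArSing.ring k r))).2 fun n => ?_
    rw [SModEq.sub_mem, smul_eq_mul, Ideal.mul_top]
    conv => arg 2; rw [PowerSeries.eq_X_pow_mul_shift_add_trunc n p, PowerSeries.eq_X_pow_mul_shift_add_trunc n q,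
      map_add, map_add, map_mul, map_mul, map_pow, hh, hn n]
    rw [show ∀ t T P Q : ArSing.ring k r,
      t + T * y' + x' ^ n * Z n - (x' ^ n * P + t + (x' ^ n * Q + T) * y') = x' ^ n * (Z n - P - Q * y') from
      fun t T P Q => by ring]
    exact Ideal.mul_mem_right _ _ (Ideal.pow_mem_pow (isX_mem_max r hx'X) n)
  exact exist

/-- `A` is free on `1, y'` over `k[[x']]`. -/
theorem free_indep (hr : 2 ≤ r) {x' y' : ArSing.ring k r} {za zb c₀ d₀ : PowerSeries k}
    (hz : x' = rep r (PowerSeries.X * za) zb) (hza : PowerSeries.constantCoeff za = 1)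
    (hy'eq : y' = rep r (PowerSeries.X ^ 2 * c₀) d₀) (hd₀ : PowerSeries.constantCoeff d₀ = 1)
    (h : PowerSeries k →ₐ[k] ArSing.ring k r) (hh : h PowerSeries.X = x') :
    ∀ p q p' q' : PowerSeries k, h p + h q * y' = h p' + h q' * y' → p = p' ∧ q = q' := by
  classical
  have hx'X : IsX r x' := ⟨za, zb, hz, hza⟩
  have hC1 : ∀ c : k, algebraMap k (ArSing.ring k r) c = rep r (PowerSeries.C c) 0 := fun c => by
    rw [← xMap_eq_rep]; exact ((ArSing.xMap k r).commutes c).symm
  have uniq0 : ∀ p q : PowerSeries k, h p + h q * y' = 0 → p = 0 ∧ q = 0 := by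
    have base : ∀ p q : PowerSeries k, h p + h q * y' = 0 →
        PowerSeries.constantCoeff p = 0 ∧ PowerSeries.constantCoeff q = 0 := by
      intro p q hpq
      obtain ⟨p', hp'⟩ := PowerSeries.X_dvd_iff.2
        (show PowerSeries.constantCoeff (p - PowerSeries.C (PowerSeries.constantCoeff p)) = 0 by simp)
      obtain ⟨q', hq'⟩ := PowerSeries.X_dvd_iff.2
        (show PowerSeries.constantCoeff (q - PowerSeries.C (PowerSeries.constantCoeff q)) = 0 by simp)
      rw [sub_eq_iff_eq_add'] at hp' hq'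
      rw [hp', hq', map_add, map_add, map_mul, map_mul, hh,
        show h (PowerSeries.C (PowerSeries.constantCoeff p)) = algebraMap k _ _ from h.commutes _,
        show h (PowerSeries.C (PowerSeries.constantCoeff q)) = algebraMap k _ _ from h.commutes _] at hpq
      obtain ⟨u, v, huv⟩ := exists_rep' r (h p' + h q' * y')
      have he : algebraMap k _ (PowerSeries.constantCoeff p) + algebraMap k _ (PowerSeries.constantCoeff q) * y' +
          x' * rep r u v = 0 := by rw [← huv]; linear_combination hpq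
      rw [hC1, hC1, hy'eq, hz, rep_mul', rep_mul'] at he
      have he' : rep r (PowerSeries.C (PowerSeries.constantCoeff p) +
            PowerSeries.C (PowerSeries.constantCoeff q) * (PowerSeries.X ^ 2 * c₀) +
            (PowerSeries.X * za * u + zb * v * PowerSeries.X ^ (r + 1)))
          (PowerSeries.C (PowerSeries.constantCoeff q) * d₀ + (PowerSeries.X * za * v + u * zb)) = 0 := by
        rw [← he]; simp only [rep, map_add, map_zero, zero_mul, mul_zero, add_zero]; ring
      obtain ⟨e1, e3⟩ := rep_eq_zero r he'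
      have hp0 := congrArg PowerSeries.constantCoeff e1
      simp at hp0
      have hu : PowerSeries.constantCoeff u = 0 := by
        have := congrArg (PowerSeries.coeff 1) e1
        rw [hp0, map_zero, zero_add, mul_assoc PowerSeries.X za u, map_add, map_add,
          PowerSeries.coeff_C_mul, PowerSeries.coeff_X_pow_mul', if_neg (by omega), PowerSeries.coeff_succ_X_mul,
          PowerSeries.coeff_mul_X_pow', if_neg (by omega), PowerSeries.coeff_zero_eq_constantCoeff_apply, map_mul,
          hza] at this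
        simpa using this
      have hq0 := congrArg PowerSeries.constantCoeff e3
      simp [hd₀, hu] at hq0
      exact ⟨hp0, hq0⟩
    intro p q hpq
    have main : ∀ n (p q : PowerSeries k), h p + h q * y' = 0 → PowerSeries.X ^ n ∣ p ∧ PowerSeries.X ^ n ∣ q := by
      intro n
      induction n with
      | zero => intro p q _; simp
      | succ n ih =>
        intro p q hpq
        obtain ⟨hp, hq⟩ := base p q hpq
        obtain ⟨p', rfl⟩ := PowerSeries.X_dvd_iff.2 hp
        obtain ⟨q', rfl⟩ := PowerSeries.X_dvd_iff.2 hq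
        rw [map_mul, map_mul, hh, mul_assoc, ← mul_add] at hpq
        have hnz : x' ∈ nonZeroDivisors (ArSing.ring k r) := isX_mem_nonZeroDivisors r hr hx'X
        have h0 : h p' + h q' * y' = 0 :=
          (mul_right_mem_nonZeroDivisors_eq_zero_iff hnz).1 (by rw [mul_comm]; exact hpq)
        obtain ⟨h1, h3⟩ := ih p' q' h0
        rw [pow_succ']
        exact ⟨mul_dvd_mul_left _ h1, mul_dvd_mul_left _ h3⟩
    constructor <;> ext n <;> rw [map_zero]
    · exact PowerSeries.X_pow_dvd_iff.1 (main (n + 1) p q hpq).1 n n.lt_succ_self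
    · exact PowerSeries.X_pow_dvd_iff.1 (main (n + 1) p q hpq).2 n n.lt_succ_self
  have uniq : ∀ p q p' q' : PowerSeries k, h p + h q * y' = h p' + h q' * y' → p = p' ∧ q = q' := by
    intro p q p' q' e
    obtain ⟨h1, h3⟩ := uniq0 (p - p') (q - q') (by rw [map_sub, map_sub]; linear_combination e)
    exact ⟨sub_eq_zero.1 h1, sub_eq_zero.1 h3⟩
  exact uniq

/-- The quadratic relation between `x'` and `y'`. -/
theorem quadratic (hr : 2 ≤ r) {x' y' : ArSing.ring k r} {c₀ d₀ P Q : PowerSeries k}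
    (hx'X : IsX r x') (hy'eq : y' = rep r (PowerSeries.X ^ 2 * c₀) d₀) (hd₀ : PowerSeries.constantCoeff d₀ = 1)
    (h : PowerSeries k →ₐ[k] ArSing.ring k r) (hh : h PowerSeries.X = x') (hPQ : y' * y' = h P + h Q * y') :
    PowerSeries.X ^ 2 ∣ Q ∧ PowerSeries.constantCoeff P = 0 := by
  have hP0 : PowerSeries.constantCoeff P = 0 := by
    have := congrArg (aug r) hPQ
    have hy0 : aug r y' = 0 := by rw [hy'eq, aug_rep]; simp
    simp only [map_mul, map_add, hy0, mul_zero, add_zero] at this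
    obtain ⟨a, b, e⟩ := exists_rep' r (h P)
    obtain ⟨P', hP'⟩ := PowerSeries.X_dvd_iff.2
      (show PowerSeries.constantCoeff (P - PowerSeries.C (PowerSeries.constantCoeff P)) = 0 by simp)
    rw [sub_eq_iff_eq_add'] at hP'
    rw [hP', map_add, map_mul, hh, show h (PowerSeries.C (PowerSeries.constantCoeff P)) = algebraMap k _ _ from
      h.commutes _, map_add, map_mul, (mem_max_iff r x').1 (isX_mem_max r hx'X), zero_mul, add_zero,
      AlgHom.commutes] at this
    simpa using this.symm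
  obtain ⟨P₁, hP₁⟩ := PowerSeries.X_dvd_iff.2 hP0
  obtain ⟨a₁', b₁', hy2, ha₁'⟩ : ∃ a b, y' * y' = rep r (PowerSeries.X ^ 3 * a) (PowerSeries.X ^ 2 * b) ∧ True := by
    refine ⟨PowerSeries.X * c₀ * c₀ + PowerSeries.X ^ (r - 2) * (d₀ * d₀), c₀ * d₀ + c₀ * d₀, ?_, trivial⟩
    rw [hy'eq, rep_mul']
    congr 1
    · rw [show r + 1 = (r - 2) + 3 by omega]; ring
    · ring
  obtain ⟨a₃, b₃, hPr, ha₃⟩ := exists_leading r hr hx'X h hh P₁ 0
  obtain ⟨qa, qb, hQr⟩ := exists_rep' r (h Q)
  have e := hy2.symm.trans hPQ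
  rw [hP₁, ← pow_one PowerSeries.X, ← zero_add 1, hPr, hQr, hy'eq, rep_mul', zero_add, pow_one, pow_zero, one_mul] at e
  have e' := e.trans (by simp only [rep, map_add]; ring : _ =
    rep r (PowerSeries.X * a₃ + (qa * (PowerSeries.X ^ 2 * c₀) + qb * d₀ * PowerSeries.X ^ (r + 1)))
      (b₃ + (qa * d₀ + PowerSeries.X ^ 2 * c₀ * qb)))
  obtain ⟨e1, e3⟩ := rep_inj r e'
  have hP1 : PowerSeries.constantCoeff P₁ = 0 := by
    have := congrArg (PowerSeries.coeff 1) e1
    rw [map_add, map_add, PowerSeries.coeff_succ_X_mul, PowerSeries.coeff_X_pow_mul', if_neg (by omega),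
      PowerSeries.coeff_mul_X_pow', if_neg (by omega), mul_left_comm, PowerSeries.coeff_X_pow_mul',
      if_neg (by omega), add_zero, add_zero, PowerSeries.coeff_zero_eq_constantCoeff_apply, ha₃] at this
    exact this.symm
  obtain ⟨P₂, hP₂⟩ := PowerSeries.X_dvd_iff.2 hP1
  obtain ⟨a₅, b₅, hPr', ha₅⟩ := exists_leading r hr hx'X h hh P₂ 1
  have e := hy2.symm.trans hPQ
  rw [hP₁, hP₂, ← mul_assoc, ← pow_two, hPr', hQr, hy'eq, rep_mul', pow_one] at e
  have e' := e.trans (by simp only [rep, map_add]; ring : _ =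
    rep r (PowerSeries.X ^ 2 * a₅ + (qa * (PowerSeries.X ^ 2 * c₀) + qb * d₀ * PowerSeries.X ^ (r + 1)))
      (PowerSeries.X * b₅ + (qa * d₀ + PowerSeries.X ^ 2 * c₀ * qb)))
  obtain ⟨e1, e3⟩ := rep_inj r e'
  have hqa : PowerSeries.constantCoeff qa = 0 := by
    have := congrArg PowerSeries.constantCoeff e3
    simpa [hd₀] using this.symm
  have hP2 : PowerSeries.constantCoeff a₅ = 0 := by
    have := congrArg (PowerSeries.coeff 2) e1
    rw [map_add, map_add, mul_left_comm qa, PowerSeries.coeff_X_pow_mul', PowerSeries.coeff_X_pow_mul',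
      PowerSeries.coeff_X_pow_mul', PowerSeries.coeff_mul_X_pow', if_neg (by omega), if_pos le_rfl,
      if_pos le_rfl, if_neg (by omega), Nat.sub_self, PowerSeries.coeff_zero_eq_constantCoeff_apply,
      PowerSeries.coeff_zero_eq_constantCoeff_apply, map_mul, hqa, zero_mul, add_zero, add_zero] at this
    exact this.symm
  rw [ha₅] at hP2
  obtain ⟨P₃, hP₃⟩ := PowerSeries.X_dvd_iff.2 hP2
  obtain ⟨a₆, b₆, hPr'', -⟩ := exists_leading r hr hx'X h hh P₃ 2
  have e := hy2.symm.trans hPQ
  rw [hP₁, hP₂, hP₃, show PowerSeries.X * (PowerSeries.X * (PowerSeries.X * P₃)) = PowerSeries.X ^ (2 + 1) * P₃ by ring,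
    hPr'', hQr, hy'eq, rep_mul'] at e
  have e' := e.trans (by simp only [rep, map_add]; ring : _ =
    rep r (PowerSeries.X ^ (2 + 1) * a₆ + (qa * (PowerSeries.X ^ 2 * c₀) + qb * d₀ * PowerSeries.X ^ (r + 1)))
      (PowerSeries.X ^ 2 * b₆ + (qa * d₀ + PowerSeries.X ^ 2 * c₀ * qb)))
  have hqa2 : PowerSeries.X ^ 2 ∣ qa * d₀ := by
    refine ⟨b₁' - b₆ - c₀ * qb, ?_⟩
    linear_combination -(rep_inj r e').2
  have hQ0 : PowerSeries.constantCoeff Q = 0 := by
    obtain ⟨Q', hQ'⟩ := PowerSeries.X_dvd_iff.2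
      (show PowerSeries.constantCoeff (Q - PowerSeries.C (PowerSeries.constantCoeff Q)) = 0 by simp)
    rw [sub_eq_iff_eq_add'] at hQ'
    have := congrArg (aug r) hQr
    rw [aug_rep, hqa, hQ', map_add, map_mul, hh, show h (PowerSeries.C (PowerSeries.constantCoeff Q)) = algebraMap k _ _ from
      h.commutes _, map_add, map_mul, (mem_max_iff r x').1 (isX_mem_max r hx'X), zero_mul, add_zero,
      AlgHom.commutes] at this
    simpa using this
  obtain ⟨Q₁, hQ₁⟩ := PowerSeries.X_dvd_iff.2 hQ0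
  obtain ⟨a₇, b₇, hQr', ha₇⟩ := exists_leading r hr hx'X h hh Q₁ 0
  rw [zero_add, pow_one, pow_zero, one_mul, ← hQ₁, hQr] at hQr'
  rw [(rep_inj r hQr').1, mul_assoc] at hqa2
  have := PowerSeries.X_pow_dvd_iff.1 hqa2 1 (by omega)
  rw [PowerSeries.coeff_succ_X_mul, PowerSeries.coeff_zero_eq_constantCoeff_apply, map_mul, hd₀, mul_one, ha₇] at this
  obtain ⟨Q₂, hQ₂⟩ := PowerSeries.X_dvd_iff.2 this
  exact ⟨⟨Q₂, by rw [hQ₁, hQ₂]; ring⟩, hP0⟩

/-- If `y₂ ≡ y` and `y₂² = h R`, then `R` has order `r + 1`. -/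
theorem order_eq (hr : 2 ≤ r) (h2 : (2 : k) ≠ 0) {x' y2 : ArSing.ring k r} {c₁ d₁ U : PowerSeries k} {N : ℕ}
    (hx'X : IsX r x') (hy2eq : y2 = rep r (PowerSeries.X ^ 2 * c₁) d₁) (hd₁ : PowerSeries.constantCoeff d₁ = 1)
    (h : PowerSeries k →ₐ[k] ArSing.ring k r) (hh : h PowerSeries.X = x') {R : PowerSeries k}
    (hU : PowerSeries.constantCoeff U ≠ 0) (hRU : R = PowerSeries.X ^ N * U) (hy2R : y2 * y2 = h R)
    (hN0 : N ≠ 0) : N = r + 1 := by
  obtain ⟨M, rfl⟩ := Nat.exists_eq_succ_of_ne_zero hN0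
  obtain ⟨a, b, hab, ha⟩ := exists_leading r hr hx'X h hh U M
  have e := hy2R
  rw [hRU, hab, hy2eq, rep_mul'] at e
  obtain ⟨e1, e3⟩ := rep_inj r e
  have hMr : M = r := by
    rcases lt_trichotomy M r with hlt | heq | hgt
    · exfalso
      have hc : PowerSeries.X ^ M ∣ PowerSeries.X ^ 2 * c₁ := by
        have hdv : IsUnit (2 * d₁) := PowerSeries.isUnit_iff_constantCoeff.2
          (isUnit_iff_ne_zero.2 (by rw [map_mul, map_ofNat, hd₁, mul_one]; exact h2))
        refine hdv.dvd_mul_right.1 ⟨b, ?_⟩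
        linear_combination e3
      obtain ⟨c', hc'⟩ := hc
      have := congrArg (PowerSeries.coeff (M + 1)) e1
      rw [map_add, PowerSeries.coeff_X_pow_mul', if_pos le_rfl, PowerSeries.coeff_mul_X_pow',
        if_neg (by omega), add_zero, Nat.sub_self, PowerSeries.coeff_zero_eq_constantCoeff_apply, ha] at this
      rcases Nat.lt_or_ge M 2 with hM | hM
      · rw [show PowerSeries.X ^ 2 * c₁ * (PowerSeries.X ^ 2 * c₁) = PowerSeries.X ^ 4 * (c₁ * c₁) by ring,
          PowerSeries.coeff_X_pow_mul', if_neg (by omega)] at this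
        exact hU this.symm
      · rw [hc', show PowerSeries.X ^ M * c' * (PowerSeries.X ^ M * c') = PowerSeries.X ^ (M + M) * (c' * c') by
            rw [pow_add]; ring, PowerSeries.coeff_X_pow_mul', if_neg (by omega)] at this
        exact hU this.symm
    · exact heq
    · exfalso
      have hc : PowerSeries.X ^ M ∣ PowerSeries.X ^ 2 * c₁ := by
        have hdv : IsUnit (2 * d₁) := PowerSeries.isUnit_iff_constantCoeff.2
          (isUnit_iff_ne_zero.2 (by rw [map_mul, map_ofNat, hd₁, mul_one]; exact h2))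
        refine hdv.dvd_mul_right.1 ⟨b, ?_⟩
        linear_combination e3
      obtain ⟨c', hc'⟩ := hc
      have := congrArg (PowerSeries.coeff (r + 1)) e1
      rw [map_add, PowerSeries.coeff_X_pow_mul', if_neg (by omega), PowerSeries.coeff_mul_X_pow',
        if_pos le_rfl, Nat.sub_self, PowerSeries.coeff_zero_eq_constantCoeff_apply, map_mul PowerSeries.constantCoeff, hd₁, one_mul, hc',
        show PowerSeries.X ^ M * c' * (PowerSeries.X ^ M * c') = PowerSeries.X ^ (M + M) * (c' * c') by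
          rw [pow_add]; ring, PowerSeries.coeff_X_pow_mul', if_neg (by omega), zero_add] at this
      exact one_ne_zero this
  rw [hMr]

theorem class_high [IsAlgClosed k] (hr : 2 ≤ r) (h2 : (2 : k) ≠ 0)
    (σ : ArSing.ring k r ≃ₐ[k] ArSing.ring k r) (hσ : ∀ a, σ (σ a) = a) :
    ∃ (φ : ArSing.ring k r ≃ₐ[k] ArSing.ring k r) (l ν : k),
      l ^ 2 = 1 ∧ ν ^ 2 = 1 ∧ l ^ (r + 1) = 1 ∧
      φ.symm (σ (φ (ArSing.x k r))) = l • ArSing.x k r ∧
      φ.symm (σ (φ (ArSing.y k r))) = ν • ArSing.y k r := by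
  classical
  have hσm : ∀ z, z ∈ maximalIdeal (ArSing.ring k r) → σ z ∈ maximalIdeal (ArSing.ring k r) := fun z hz hu =>
    hz (by simpa [hσ] using hu.map σ)
  have hσC : ∀ c : k, σ (algebraMap k _ c) = algebraMap k _ c := fun c => σ.commutes c
  obtain ⟨A', B, C'', D, hA, hC, hll, hνν⟩ := tangent r hr σ hσ
  set l := PowerSeries.constantCoeff A' with hl
  set ν := PowerSeries.constantCoeff D with hν
  -- eigen coordinates
  have hh2 : (2⁻¹ : k) * 2 = 1 := inv_mul_cancel₀ h2
  let x' := algebraMap k (ArSing.ring k r) 2⁻¹ * (ArSing.x k r + algebraMap k _ l * σ (ArSing.x k r))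
  let y' := algebraMap k (ArSing.ring k r) 2⁻¹ * (ArSing.y k r + algebraMap k _ ν * σ (ArSing.y k r))
  have hσx' : σ x' = algebraMap k _ l * x' := by
    have h1 : algebraMap k (ArSing.ring k r) l * algebraMap k _ l = 1 := by
      rw [← map_mul, ← pow_two, hll, map_one]
    simp only [x', map_mul, map_add, hσC, hσ]
    linear_combination -(algebraMap k (ArSing.ring k r) 2⁻¹ * σ (ArSing.x k r)) * h1
  have hσy' : σ y' = algebraMap k _ ν * y' := by
    have h1 : algebraMap k (ArSing.ring k r) ν * algebraMap k _ ν = 1 := by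
      rw [← map_mul, ← pow_two, hνν, map_one]
    simp only [y', map_mul, map_add, hσC, hσ]
    linear_combination -(algebraMap k (ArSing.ring k r) 2⁻¹ * σ (ArSing.y k r)) * h1
  have hC1 : ∀ c : k, algebraMap k (ArSing.ring k r) c = rep r (PowerSeries.C c) 0 := fun c => by
    rw [← xMap_eq_rep]; exact ((ArSing.xMap k r).commutes c).symm
  have hx'X : IsX r x' := by
    refine ⟨PowerSeries.C 2⁻¹ * (1 + PowerSeries.C l * A'), PowerSeries.C 2⁻¹ * (PowerSeries.C l * B), ?_, ?_⟩
    · simp only [x', hA, hC1, rep, map_zero, zero_mul, add_zero, map_add, map_mul, map_one, xMap_X]; ring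
    · simp only [map_mul, map_add, map_one, PowerSeries.constantCoeff_C, ← hl]
      rw [← pow_two, hll, one_add_one_eq_two, hh2]
  obtain ⟨c₀, d₀, hy'eq, hd₀⟩ : ∃ c₀ d₀, y' = rep r (PowerSeries.X ^ 2 * c₀) d₀ ∧
      PowerSeries.constantCoeff d₀ = 1 := by
    refine ⟨PowerSeries.C 2⁻¹ * (PowerSeries.C ν * C''), PowerSeries.C 2⁻¹ * (1 + PowerSeries.C ν * D), ?_, ?_⟩
    · simp only [y', hC, hC1, rep, map_zero, zero_mul, add_zero, map_add, map_mul, map_one, map_pow]; ring
    · simp only [map_mul, map_add, map_one, PowerSeries.constantCoeff_C, ← hν]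
      rw [← pow_two, hνν, one_add_one_eq_two, hh2]
  obtain ⟨h, hh⟩ := exists_psTo r x' (isX_mem_max r hx'X)
  obtain ⟨za, zb, hz, hza⟩ := id hx'X
  have exist := free_span r hr hz hza hy'eq hd₀ h hh
  have uniq := free_indep r hr hz hza hy'eq hd₀ h hh
  have hσh : ∀ f, σ (h f) = h (rsc l f) := fun f => DFunLike.congr_fun
    (psExt (f := σ.toAlgHom.comp h) (g := h.comp (rsc l))
      (by show σ (h _) ∈ _; rw [hh]; exact hσm _ (isX_mem_max r hx'X))
      (by
        show σ (h _) = h (rsc l _)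
        rw [hh, hσx', rsc_X, map_mul, hh, show h (PowerSeries.C l) = algebraMap k _ l from h.commutes l])) f
  -- the quadratic relation
  obtain ⟨P, Q, hPQ⟩ := exist (y' * y')
  obtain ⟨hP, hQ⟩ := uniq (rsc l P) (PowerSeries.C ν * rsc l Q) P Q (by
    rw [← hPQ, map_mul h, show h (PowerSeries.C ν) = algebraMap k _ ν from h.commutes ν]
    have e := congrArg σ hPQ
    simp only [map_mul, map_add, hσy', hσh] at e
    have h1 : algebraMap k (ArSing.ring k r) ν * algebraMap k _ ν = 1 := by
      rw [← map_mul, ← pow_two, hνν, map_one]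
    linear_combination -e + (y' * y') * h1)
  have hQ2 := quadratic r hr hx'X hy'eq hd₀ h hh hPQ
  obtain ⟨Q₂, hQ₂⟩ := hQ2.1
  -- complete the square
  let H := PowerSeries.C (2⁻¹ : k) * Q
  let y2 := y' - h H
  let R := P + H * H
  have hQl : rsc l Q = PowerSeries.C ν * Q := by
    conv_rhs => rw [← hQ, ← mul_assoc, ← map_mul, ← pow_two, hνν, map_one, one_mul]
  have hσy2 : σ y2 = algebraMap k _ ν * y2 := by
    simp only [y2, H, map_sub, hσy', hσh, map_mul, hQl]
    rw [show rsc l (PowerSeries.C (2⁻¹ : k)) = PowerSeries.C 2⁻¹ from (rsc l).commutes _,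
      show h (PowerSeries.C ν) = algebraMap k _ ν from h.commutes _]
    ring
  have hR : rsc l R = R := by
    simp only [R, H, map_add, map_mul, hQl, hP]
    rw [show rsc l (PowerSeries.C (2⁻¹ : k)) = PowerSeries.C 2⁻¹ from (rsc l).commutes _]
    have h1 : PowerSeries.C ν * PowerSeries.C ν = (1 : PowerSeries k) := by
      rw [← map_mul, ← pow_two, hνν, map_one]
    linear_combination (PowerSeries.C (2⁻¹ : k) * PowerSeries.C (2⁻¹ : k) * Q * Q) * h1
  have hy2R : y2 * y2 = h R := by
    have h1 : h Q = h H + h H := by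
      rw [← map_add]; congr 1
      simp only [H]
      rw [← add_mul, ← map_add, ← two_mul, mul_inv_cancel₀ h2, map_one, one_mul]
    simp only [y2, R, map_add, map_mul]
    linear_combination hPQ + y' * h1
  obtain ⟨c₁, d₁, hy2eq, hd₁⟩ : ∃ c d, y2 = rep r (PowerSeries.X ^ 2 * c) d ∧ PowerSeries.constantCoeff d = 1 := by
    obtain ⟨a, b, e, -⟩ := exists_leading r hr hx'X h hh (PowerSeries.C (2⁻¹ : k) * Q₂) 1
    refine ⟨c₀ - a, d₀ - PowerSeries.X * b, ?_, by simp [hd₀]⟩
    have eH : H = PowerSeries.X ^ (1 + 1) * (PowerSeries.C (2⁻¹ : k) * Q₂) := by simp only [H, hQ₂]; ring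
    simp only [y2]
    rw [eH, e, hy'eq, rep_sub, pow_one, ← mul_sub]
  -- the order of `R`
  have hR0 : R ≠ 0 := fun h0 => by
    have e := hy2R
    rw [h0, map_zero, hy2eq, rep_mul'] at e
    obtain ⟨e1, e3⟩ := rep_eq_zero r e
    have hd : d₁ ≠ 0 := fun h => by simp [h] at hd₁
    have h2' : (2 : PowerSeries k) ≠ 0 := two_C h2
    have hc : c₁ = 0 := by
      have : (2 : PowerSeries k) * PowerSeries.X ^ 2 * d₁ * c₁ = 0 := by linear_combination e3
      simpa [h2', hd, PowerSeries.X_ne_zero] using this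
    rw [hc] at e1
    simp [hd, PowerSeries.X_ne_zero] at e1
  obtain ⟨N, U, hU, hRU⟩ : ∃ (N : ℕ) (U : PowerSeries k), PowerSeries.constantCoeff U ≠ 0 ∧
      R = PowerSeries.X ^ N * U := by
    refine ⟨R.order.toNat, PowerSeries.divXPowOrder R, ?_, PowerSeries.X_pow_order_mul_divXPowOrder.symm⟩
    rw [PowerSeries.constantCoeff_divXPowOrder]
    exact PowerSeries.coeff_order hR0
  have hN0 : N ≠ 0 := fun h0 => by
    rw [h0, pow_zero, one_mul] at hRU
    apply hU
    have : PowerSeries.constantCoeff R = 0 := by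
      simp [R, H, hQ₂, hQ2.2]
    rwa [hRU] at this
  obtain rfl := order_eq r hr h2 hx'X hy2eq hd₁ h hh hU hRU hy2R hN0
  -- normalise
  have hlU : l ^ (r + 1) = 1 ∧ rsc l U = U := by
    have hpow : PowerSeries.X ^ (r + 1) * (PowerSeries.C (l ^ (r + 1)) * rsc l U) = PowerSeries.X ^ (r + 1) * U := by
      rw [← hRU]
      conv_rhs => rw [← hR, hRU, map_mul, map_pow, rsc_X, mul_pow, ← map_pow]
      ring
    have h' := mul_left_cancel₀ (pow_ne_zero _ PowerSeries.X_ne_zero) hpow
    have hl1 : l ^ (r + 1) = 1 := by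
      have := congrArg PowerSeries.constantCoeff h'
      rw [map_mul, PowerSeries.constantCoeff_C, constantCoeff_rsc] at this
      exact mul_right_cancel₀ hU (by rw [this, one_mul])
    rw [hl1, map_one, one_mul] at h'
    exact ⟨hl1, h'⟩
  obtain ⟨s, hs, hs0⟩ := exists_sqrt h2 U hU
  have hsl : rsc l s = s := by
    have h' : (rsc l s - s) * (rsc l s + s) = 0 := by
      have : rsc l s ^ 2 = s ^ 2 := by rw [← map_pow, hs, hlU.2]
      linear_combination this
    refine sub_eq_zero.1 ((mul_eq_zero.1 h').resolve_right fun h0 => ?_)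
    have := congrArg PowerSeries.constantCoeff h0
    rw [map_add, constantCoeff_rsc, map_zero, ← two_mul] at this
    exact mul_ne_zero h2 hs0 this
  have hsinv : rsc l s⁻¹ = s⁻¹ := by
    refine mul_left_cancel₀ (fun h0 => hs0 (by simp [h0]) : s ≠ 0) ?_
    calc s * rsc l s⁻¹ = rsc l s * rsc l s⁻¹ := by rw [hsl]
      _ = 1 := by rw [← map_mul, PowerSeries.mul_inv_cancel s hs0, map_one]
      _ = s * s⁻¹ := (PowerSeries.mul_inv_cancel s hs0).symm
  let y3 := h s⁻¹ * y2
  have hy3 : y3 ^ 2 = x' ^ (r + 1) := by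
    calc y3 ^ 2 = h (s⁻¹ * s⁻¹) * (y2 * y2) := by simp only [y3, map_mul]; ring
      _ = h (s⁻¹ * s⁻¹ * (PowerSeries.X ^ (r + 1) * U)) := by rw [hy2R, ← map_mul, hRU]
      _ = h (PowerSeries.X ^ (r + 1) * (s * s⁻¹) ^ 2) := by congr 1; rw [← hs]; ring
      _ = x' ^ (r + 1) := by
        rw [PowerSeries.mul_inv_cancel s hs0, one_pow, mul_one, map_pow, hh]
  obtain ⟨f, hfx, hfy⟩ := exists_hom r x' y3 (isX_mem_max r hx'X) hy3
  have hy3eq : ∃ c d, y3 = rep r (PowerSeries.X ^ 2 * c) d ∧ PowerSeries.constantCoeff d ≠ 0 := by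
    obtain ⟨u, v, huv⟩ := exists_rep' r (h s⁻¹)
    have hu : PowerSeries.constantCoeff u ≠ 0 := by
      rw [← aug_rep r u v, ← huv]
      have : aug r (h s) * aug r (h s⁻¹) = 1 := by
        rw [← map_mul, ← map_mul, PowerSeries.mul_inv_cancel s hs0, map_one, map_one]
      exact right_ne_zero_of_mul_eq_one this
    refine ⟨u * c₁ + v * d₁ * PowerSeries.X ^ (r - 1), u * d₁ + PowerSeries.X ^ 2 * c₁ * v, ?_, ?_⟩
    · simp only [y3]
      rw [huv, hy2eq, rep_mul']
      congr 1
      rw [show r + 1 = (r - 1) + 2 by omega]; ring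
    · simpa [hd₁] using hu
  obtain ⟨c₃, d₃, hy3eq, hd₃⟩ := hy3eq
  have hbij : Function.Bijective f := by
    have hm2 : ∀ t, ArSing.xMap k r (PowerSeries.X ^ 2 * t) ∈ maximalIdeal (ArSing.ring k r) ^ 2 := fun t => by
      rw [map_mul, map_pow, xMap_X]
      exact Ideal.mul_mem_right _ _ (Ideal.pow_mem_pow (x_mem r) 2)
    have hyS : ArSing.y k r ∈ Ideal.span {f (ArSing.x k r), f (ArSing.y k r)} ⊔ maximalIdeal (ArSing.ring k r) ^ 2 := by
      have e' : ArSing.y k r = (f (ArSing.y k r) - ArSing.xMap k r (PowerSeries.X ^ 2 * c₃)) * ArSing.xMap k r d₃⁻¹ := by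
        rw [hfy, hy3eq, rep, add_sub_cancel_left, mul_right_comm, ← map_mul, PowerSeries.mul_inv_cancel d₃ hd₃,
          map_one, one_mul]
      have hmem := Ideal.mul_mem_right (ArSing.xMap k r d₃⁻¹)
        (Ideal.span {f (ArSing.x k r), f (ArSing.y k r)} ⊔ maximalIdeal (ArSing.ring k r) ^ 2)
        (sub_mem (Submodule.mem_sup_left (Ideal.subset_span (Set.mem_insert_of_mem _ rfl)))
        (Submodule.mem_sup_right (hm2 c₃)))
      rwa [← e'] at hmem
    refine bijective_of_endo r f (hfx ▸ isX_mem_max r hx'X) (hfy ▸ (hy3eq ▸ (mem_max_rep r _ _).2 (by simp))) ⟨?_, hyS⟩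
    have e' : ArSing.x k r = (f (ArSing.x k r) - ArSing.xMap k r zb * ArSing.y k r) * ArSing.xMap k r za⁻¹ := by
      rw [hfx, hz, rep, add_sub_cancel_right, ← map_mul, mul_assoc, PowerSeries.mul_inv_cancel za (by rw [hza]; exact one_ne_zero),
        mul_one, xMap_X]
    have hmem := Ideal.mul_mem_right (ArSing.xMap k r za⁻¹)
      (Ideal.span {f (ArSing.x k r), f (ArSing.y k r)} ⊔ maximalIdeal (ArSing.ring k r) ^ 2)
      (sub_mem (Submodule.mem_sup_left (Ideal.subset_span (Set.mem_insert _ _)))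
      (Ideal.mul_mem_left _ (ArSing.xMap k r zb) hyS))
    rwa [← e'] at hmem
  let φ := AlgEquiv.ofBijective f hbij
  have hφ : ∀ z, φ z = f z := fun _ => rfl
  refine ⟨φ, l, ν, hll, hνν, hlU.1, ?_, ?_⟩
  · rw [AlgEquiv.symm_apply_eq, map_smul, hφ, hfx, hσx']
    exact (Algebra.smul_def l x').symm
  · rw [AlgEquiv.symm_apply_eq, map_smul, hφ, hfy]
    refine ((?_ : σ y3 = algebraMap k _ ν * y3)).trans (Algebra.smul_def ν y3).symm
    simp only [y3, map_mul, hσh, hσy2, hsinv]
    ring

end Groth.Agent.ArSingLib
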