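import Mathlib
import Groth.Agent.ArSingLib.Branch
import Groth.Agent.ArSingLib.PSInvol
import Groth.Agent.ArSingLib.Standard

/-!
# Involutions of `A_0` and of the node
-/

set_option autoImplicit false
set_option linter.style.haveILetI false

universe u

noncomputable section

namespace Groth.Agent.ArSingLib

open IsLocalRing

variable {k : Type u} [Field k]

theorem class_zero (h2 : (2 : k) ≠ 0)
    (σ : ArSing.ring k 0 ≃ₐ[k] ArSing.ring k 0) (hσ : ∀ a, σ (σ a) = a) (hne : σ ≠ AlgEquiv.refl) :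
    ∃ φ : ArSing.ring k 0 ≃ₐ[k] ArSing.ring k 0,
      φ.symm (σ (φ (ArSing.x k 0))) = ArSing.x k 0 ∧ φ.symm (σ (φ (ArSing.y k 0))) = -ArSing.y k 0 := by
  let E₀ : ArSing.ring k 0 →ₐ[k] PowerSeries k :=
    toPS 0 (PowerSeries.X ^ 2) PowerSeries.X (by simp) (by ring)
  have hx : E₀ (ArSing.x k 0) = PowerSeries.X ^ 2 := toPS_x 0 _ _ _ _
  have hy : E₀ (ArSing.y k 0) = PowerSeries.X := toPS_y 0 _ _ _ _
  have hxm : ∀ a, E₀ (ArSing.xMap k 0 a) = sq2 a := fun a =>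
    DFunLike.congr_fun (psExt (f := E₀.comp (ArSing.xMap k 0)) (g := sq2)
      (mem_max_PS.2 (by rw [AlgHom.comp_apply, xMap_X, hx]; simp))
      (by rw [AlgHom.comp_apply, xMap_X, hx, sq2_X])) a
  have hb : Function.Bijective E₀ := by
    constructor
    · intro z w h
      obtain ⟨a, b, rfl⟩ := exists_rep 0 z
      obtain ⟨c, d, rfl⟩ := exists_rep 0 w
      simp only [map_add, map_mul, hxm, hy] at h
      obtain ⟨rfl, rfl⟩ := decomp_unique h2 (by linear_combination h : sq2 a + PowerSeries.X * sq2 b = sq2 c + PowerSeries.X * sq2 d)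
      rfl
    · intro f
      obtain ⟨u, v, rfl⟩ := decomp_sq2 h2 f
      exact ⟨rep 0 u v, by rw [rep, map_add, map_mul, hxm, hxm, hy, mul_comm]⟩
  let E := AlgEquiv.ofBijective E₀ hb
  have hEy : E (ArSing.y k 0) = PowerSeries.X := hy
  obtain ⟨hξ, φ, -, hφ⟩ := ps_linearize h2 ((E.symm.trans σ).trans E) (fun f => by simp [hσ])
  set ξ := PowerSeries.coeff 1 (((E.symm.trans σ).trans E) PowerSeries.X)
  let Φ := (E.trans φ).trans E.symm
  have key : ∀ z, Φ.symm (σ (Φ z)) = E.symm (PowerSeries.rescale ξ (E z)) := fun z => by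
    rw [← hφ]; simp [Φ]
  have hcase : ξ = -1 := by
    refine (sq_eq_one_iff.1 hξ).resolve_left fun h1 => hne (AlgEquiv.ext fun z => ?_)
    have h := key (Φ.symm z)
    rw [h1, PowerSeries.rescale_one, RingHom.id_apply, E.symm_apply_apply, Φ.apply_symm_apply] at h
    exact Φ.symm.injective h
  refine ⟨Φ, ?_, ?_⟩
  · rw [key, AlgEquiv.symm_apply_eq, show E (ArSing.x k 0) = PowerSeries.X ^ 2 from hx, map_pow, hcase,
      PowerSeries.rescale_neg_one_X, neg_sq]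
  · rw [key, hEy, AlgEquiv.symm_apply_eq, map_neg, hEy, hcase, PowerSeries.rescale_neg_one_X]

/-- Algebra maps to `k[[X]]` are local. -/
theorem map_mem_max (T : ArSing.ring k 1 →ₐ[k] PowerSeries k) {z : ArSing.ring k 1}
    (hz : z ∈ maximalIdeal (ArSing.ring k 1)) : T z ∈ maximalIdeal (PowerSeries k) := by
  refine mem_max_PS.2 ?_
  by_contra h0
  set c := PowerSeries.constantCoeff (T z)
  have hu : IsUnit (z - algebraMap k _ c) := by
    by_contra hnu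
    have h' := (mem_max_iff 1 _).1 ((mem_maximalIdeal _).2 hnu)
    rw [map_sub, (mem_max_iff 1 z).1 hz, AlgHom.commutes, zero_sub, neg_eq_zero] at h'
    exact h0 (by simpa using h')
  have := PowerSeries.isUnit_iff_constantCoeff.1 (hu.map T)
  rw [map_sub, AlgHom.commutes, map_sub, ← PowerSeries.C_eq_algebraMap, PowerSeries.constantCoeff_C, sub_self] at this
  exact not_isUnit_zero this

/-- A map killing one branch factors through the other. -/
theorem exists_fac (σ : ArSing.ring k 1 ≃ₐ[k] ArSing.ring k 1) {T : ArSing.ring k 1 →ₐ[k] PowerSeries k}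
    (hσm : ∀ z, z ∈ maximalIdeal (ArSing.ring k 1) → σ z ∈ maximalIdeal (ArSing.ring k 1)) :
    ∃ F : PowerSeries k →ₐ[k] PowerSeries k,
      (T (σ (ArSing.x k 1 + ArSing.y k 1)) = 0 → ∀ z, T (σ z) = F (brQ z)) ∧
      (T (σ (ArSing.y k 1 - ArSing.x k 1)) = 0 → ∀ z, T (σ z) = F (brP z)) := by
  have hm : T (σ (ArSing.x k 1)) ∈ maximalIdeal (PowerSeries k) := by
    have := map_mem_max T (hσm _ (x_mem 1))
    exact this
  let F : PowerSeries k →ₐ[k] PowerSeries k :=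
    PowerSeries.substAlgHom (PowerSeries.HasSubst.of_constantCoeff_zero' (mem_max_PS.1 hm))
  have hF : F PowerSeries.X = T (σ (ArSing.x k 1)) := PowerSeries.substAlgHom_X _
  refine ⟨F, fun h z => ?_, fun h z => ?_⟩
  · rw [map_add, map_add] at h
    exact DFunLike.congr_fun (ringExt 1 (f := T.comp σ.toAlgHom) (g := F.comp brQ) hm
      (by simp [hF]) (by simpa [hF, eq_neg_iff_add_eq_zero, add_comm] using h)) z
  · rw [map_sub, map_sub, sub_eq_zero] at h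
    exact DFunLike.congr_fun (ringExt 1 (f := T.comp σ.toAlgHom) (g := F.comp brP) hm
      (by simp [hF]) (by simpa [hF] using h)) z

/-- Branches determine an automorphism of the node. -/
theorem exists_nodeAut (h2 : (2 : k) ≠ 0) (F G : PowerSeries k ≃ₐ[k] PowerSeries k) :
    ∃ Φ : ArSing.ring k 1 ≃ₐ[k] ArSing.ring k 1, ∀ z, brP (Φ z) = F (brP z) ∧ brQ (Φ z) = G (brQ z) := by
  have hc : ∀ (F : PowerSeries k ≃ₐ[k] PowerSeries k), PowerSeries.constantCoeff (F PowerSeries.X) = 0 := fun F =>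
    mem_max_PS.1 fun hu => (mem_max_PS.2 PowerSeries.constantCoeff_X) (by simpa using hu.map F.symm)
  have mk : ∀ F G : PowerSeries k ≃ₐ[k] PowerSeries k, ∃ f : ArSing.ring k 1 →ₐ[k] ArSing.ring k 1,
      ∀ z, brP (f z) = F (brP z) ∧ brQ (f z) = G (brQ z) := by
    intro F G
    obtain ⟨u, hu1, hu2⟩ := exists_glue h2 (F PowerSeries.X) (G PowerSeries.X) (by rw [hc, hc])
    obtain ⟨w, hw1, hw2⟩ := exists_glue h2 (F PowerSeries.X) (-G PowerSeries.X) (by rw [map_neg, hc, hc, neg_zero])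
    have hum : u ∈ maximalIdeal (ArSing.ring k 1) := fun h => (mem_max_PS.2 (hc F)) (hu1 ▸ h.map brP)
    obtain ⟨f, hfx, hfy⟩ := exists_hom 1 u w hum (br_injective h2 (by simp [hu1, hw1]) (by simp [hu2, hw2]))
    refine ⟨f, fun z => ⟨DFunLike.congr_fun (ringExt 1 (f := brP.comp f) (g := F.toAlgHom.comp brP) ?_ ?_ ?_) z,
      DFunLike.congr_fun (ringExt 1 (f := brQ.comp f) (g := G.toAlgHom.comp brQ) ?_ ?_ ?_) z⟩⟩
    · exact mem_max_PS.2 (by simp [hfx, hu1, hc])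
    · simp [hfx, hu1]
    · simp [hfy, hw1]
    · exact mem_max_PS.2 (by simp [hfx, hu2, hc])
    · simp [hfx, hu2]
    · simp [hfy, hw2]
  obtain ⟨f, hf⟩ := mk F G
  obtain ⟨g, hg⟩ := mk F.symm G.symm
  refine ⟨AlgEquiv.ofAlgHom f g (AlgHom.ext fun z => br_injective h2 ?_ ?_) (AlgHom.ext fun z => br_injective h2 ?_ ?_), hf⟩
  · simp [(hf (g z)).1, (hg z).1]
  · simp [(hf (g z)).2, (hg z).2]
  · simp [(hg (f z)).1, (hf z).1]
  · simp [(hg (f z)).2, (hf z).2]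

theorem class_one (h2 : (2 : k) ≠ 0)
    (σ : ArSing.ring k 1 ≃ₐ[k] ArSing.ring k 1) (hσ : ∀ a, σ (σ a) = a) (hne : σ ≠ AlgEquiv.refl) :
    ∃ φ : ArSing.ring k 1 ≃ₐ[k] ArSing.ring k 1,
      (φ.symm (σ (φ (ArSing.x k 1))) = ArSing.x k 1 ∧ φ.symm (σ (φ (ArSing.y k 1))) = -ArSing.y k 1) ∨
      (φ.symm (σ (φ (ArSing.x k 1))) = -ArSing.x k 1 ∧ φ.symm (σ (φ (ArSing.y k 1))) = -ArSing.y k 1) ∨
      (φ.symm (σ (φ (ArSing.x k 1))) = ArSing.y k 1 ∧ φ.symm (σ (φ (ArSing.y k 1))) = ArSing.x k 1) := by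
  classical
  let u := ArSing.x k 1 + ArSing.y k 1
  let v := ArSing.y k 1 - ArSing.x k 1
  have h2' : (2 : PowerSeries k) ≠ 0 := by
    rw [← map_ofNat (PowerSeries.C (R := k)) 2]
    exact fun h => h2 (PowerSeries.C_injective (h.trans (map_zero _).symm))
  have hPu : brP u ≠ 0 := by
    simp only [u, map_add, brP_x, brP_y, ← two_mul]; exact mul_ne_zero h2' PowerSeries.X_ne_zero
  have hQv : brQ v ≠ 0 := by
    simp only [v, map_sub, brQ_x, brQ_y]
    rw [show -PowerSeries.X - PowerSeries.X = -(2 * (PowerSeries.X : PowerSeries k)) by ring]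
    exact neg_ne_zero.2 (mul_ne_zero h2' PowerSeries.X_ne_zero)
  have huv : σ u * σ v = 0 := by
    rw [← map_mul, show u * v = 0 by simp only [u, v]; linear_combination y_sq (k := k) 1, map_zero]
  have hσm : ∀ z, z ∈ maximalIdeal (ArSing.ring k 1) → σ z ∈ maximalIdeal (ArSing.ring k 1) := fun z hz hu =>
    hz (by simpa [hσ] using hu.map σ)
  have hσu : σ u ≠ 0 := fun h => hPu (by rw [σ.map_eq_zero_iff.1 h, map_zero])
  have hσv : σ v ≠ 0 := fun h => hQv (by rw [σ.map_eq_zero_iff.1 h, map_zero])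
  have hPor : brP (σ u) = 0 ∨ brP (σ v) = 0 := mul_eq_zero.1 (by rw [← map_mul, huv, map_zero])
  have hQor : brQ (σ u) = 0 ∨ brQ (σ v) = 0 := mul_eq_zero.1 (by rw [← map_mul, huv, map_zero])
  have hzero : ∀ z, brP z = 0 → brQ z = 0 → z = 0 := fun z hP hQ =>
    br_injective h2 (by rw [hP, map_zero]) (by rw [hQ, map_zero])
  -- the substitution given by `σ` on a branch
  obtain ⟨FP, hFP⟩ := exists_fac σ (T := brP) hσm
  obtain ⟨FQ, hFQ⟩ := exists_fac σ (T := brQ) hσm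
  rcases hPor with hP | hP
  · -- the branches are exchanged
    have hQ : brQ (σ v) = 0 := hQor.resolve_left fun h => hσu (hzero _ hP h)
    have hP' := hFP.1 hP
    have hQ' := hFQ.2 hQ
    have hFG : ∀ f, FP (FQ f) = f := fun f => by
      obtain ⟨z, hz, -⟩ := exists_glue h2 f (PowerSeries.C (PowerSeries.constantCoeff f)) (by simp)
      rw [← hz, ← hQ' z, ← hP' (σ z), hσ]
    have hGF : ∀ f, FQ (FP f) = f := fun f => by
      obtain ⟨z, -, hz⟩ := exists_glue h2 (PowerSeries.C (PowerSeries.constantCoeff f)) f (by simp)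
      rw [← hz, ← hP' z, ← hQ' (σ z), hσ]
    let G : PowerSeries k ≃ₐ[k] PowerSeries k := AlgEquiv.ofAlgHom FQ FP (AlgHom.ext hGF) (AlgHom.ext hFG)
    obtain ⟨Φ, hΦ⟩ := exists_nodeAut h2 (AlgEquiv.refl (R := k) (A₁ := PowerSeries k)) G
    refine ⟨Φ, Or.inl ⟨?_, ?_⟩⟩ <;> rw [AlgEquiv.symm_apply_eq] <;> refine br_injective h2 ?_ ?_
    · rw [hP', (hΦ _).2, (hΦ _).1]; simp [G, hFG]
    · rw [hQ', (hΦ _).2, (hΦ _).1]; simp [G]
    · rw [hP', (hΦ _).2, map_neg, map_neg, (hΦ _).1]; simp [G, hFG]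
    · rw [hQ', (hΦ _).1, map_neg, map_neg, (hΦ _).2]; simp [G]
  · -- the branches are preserved
    have hQ : brQ (σ u) = 0 := hQor.resolve_right fun h => hσv (hzero _ hP h)
    have hP' := hFP.2 hP
    have hQ' := hFQ.1 hQ
    have hFF : ∀ f, FP (FP f) = f := fun f => by
      obtain ⟨z, hz, -⟩ := exists_glue h2 f (PowerSeries.C (PowerSeries.constantCoeff f)) (by simp)
      rw [← hz, ← hP' z, ← hP' (σ z), hσ]
    have hGG : ∀ f, FQ (FQ f) = f := fun f => by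
      obtain ⟨z, -, hz⟩ := exists_glue h2 (PowerSeries.C (PowerSeries.constantCoeff f)) f (by simp)
      rw [← hz, ← hQ' z, ← hQ' (σ z), hσ]
    obtain ⟨hξ₁, φ₁, -, h₁⟩ := ps_linearize h2 (AlgEquiv.ofAlgHom FP FP (AlgHom.ext hFF) (AlgHom.ext hFF)) hFF
    obtain ⟨hξ₂, φ₂, -, h₂⟩ := ps_linearize h2 (AlgEquiv.ofAlgHom FQ FQ (AlgHom.ext hGG) (AlgHom.ext hGG)) hGG
    set a := PowerSeries.coeff 1 ((AlgEquiv.ofAlgHom FP FP (AlgHom.ext hFF) (AlgHom.ext hFF)) PowerSeries.X)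
    set b := PowerSeries.coeff 1 ((AlgEquiv.ofAlgHom FQ FQ (AlgHom.ext hGG) (AlgHom.ext hGG)) PowerSeries.X)
    have k₁ : ∀ f, FP (φ₁ f) = φ₁ (PowerSeries.rescale a f) := fun f =>
      (AlgEquiv.symm_apply_eq φ₁).1 (h₁ f)
    have k₂ : ∀ f, FQ (φ₂ f) = φ₂ (PowerSeries.rescale b f) := fun f =>
      (AlgEquiv.symm_apply_eq φ₂).1 (h₂ f)
    have hnm : ∀ f : PowerSeries k, PowerSeries.rescale (-1 : k) (PowerSeries.rescale (-1) f) = f := fun f => by
      rw [PowerSeries.rescale_rescale, neg_one_mul, neg_neg, PowerSeries.rescale_one, RingHom.id_apply]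
    rcases sq_eq_one_iff.1 hξ₁ with ha | ha <;> rcases sq_eq_one_iff.1 hξ₂ with hb | hb
    · refine absurd (AlgEquiv.ext fun z => br_injective h2 ?_ ?_) hne
      · rw [hP', show brP z = φ₁ (φ₁.symm (brP z)) by simp, k₁, ha]; simp
      · rw [hQ', show brQ z = φ₂ (φ₂.symm (brQ z)) by simp, k₂, hb]; simp
    · obtain ⟨Φ, hΦ⟩ := exists_nodeAut h2 φ₁ φ₂
      refine ⟨Φ, Or.inr (Or.inr ⟨?_, ?_⟩)⟩ <;> rw [AlgEquiv.symm_apply_eq] <;> refine br_injective h2 ?_ ?_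
      · rw [hP', (hΦ _).1, k₁, ha, (hΦ _).1]; simp
      · rw [hQ', (hΦ _).2, k₂, hb, (hΦ _).2, brQ_x, brQ_y, PowerSeries.rescale_neg_one_X]
      · rw [hP', (hΦ _).1, k₁, ha, (hΦ _).1]; simp
      · rw [hQ', (hΦ _).2, k₂, hb, (hΦ _).2, brQ_x, brQ_y, map_neg, PowerSeries.rescale_neg_one_X, neg_neg]
    · obtain ⟨Φ, hΦ⟩ := exists_nodeAut h2 φ₁ φ₂
      -- `(x, y) ↦ (-y, -x)`; flip `y`
      obtain ⟨T, hTx, hTy⟩ := exists_hom 1 (ArSing.x k 1) (-ArSing.y k 1) (x_mem 1) ((neg_sq (ArSing.y k 1)).trans (y_sq 1))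
      have hTT : T.comp T = AlgHom.id k _ := ringExt 1 (by simp [hTx, x_mem 1]) (by simp [hTx]) (by simp [hTy])
      let Te := AlgEquiv.ofAlgHom T T hTT hTT
      have hT : ∀ z, brP (T z) = brQ z ∧ brQ (T z) = brP z := fun z =>
        ⟨DFunLike.congr_fun (ringExt 1 (f := brP.comp T) (g := brQ) (mem_max_PS.2 (by simp [hTx]))
            (by simp [hTx]) (by simp [hTy])) z,
         DFunLike.congr_fun (ringExt 1 (f := brQ.comp T) (g := brP) (mem_max_PS.2 (by simp [hTx]))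
            (by simp [hTx]) (by simp [hTy])) z⟩
      refine ⟨Te.trans Φ, Or.inr (Or.inr ⟨?_, ?_⟩)⟩ <;> rw [AlgEquiv.symm_apply_eq] <;>
        simp only [AlgEquiv.trans_apply, Te, AlgEquiv.ofAlgHom_apply] <;> refine br_injective h2 ?_ ?_
      · rw [hP', (hΦ _).1, k₁, ha, (hΦ _).1, (hT _).1, (hT _).1, brQ_x, brQ_y, PowerSeries.rescale_neg_one_X]
      · rw [hQ', (hΦ _).2, k₂, hb, (hΦ _).2, (hT _).2, (hT _).2]; simp
      · rw [hP', (hΦ _).1, k₁, ha, (hΦ _).1, (hT _).1, (hT _).1, brQ_x, brQ_y, map_neg, PowerSeries.rescale_neg_one_X, neg_neg]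
      · rw [hQ', (hΦ _).2, k₂, hb, (hΦ _).2, (hT _).2, (hT _).2]; simp
    · obtain ⟨Φ, hΦ⟩ := exists_nodeAut h2 φ₁ φ₂
      refine ⟨Φ, Or.inr (Or.inl ⟨?_, ?_⟩)⟩ <;> rw [AlgEquiv.symm_apply_eq] <;> refine br_injective h2 ?_ ?_
      · rw [hP', (hΦ _).1, k₁, ha, (hΦ _).1, map_neg, brP_x, PowerSeries.rescale_neg_one_X]
      · rw [hQ', (hΦ _).2, k₂, hb, (hΦ _).2, map_neg, brQ_x, PowerSeries.rescale_neg_one_X]
      · rw [hP', (hΦ _).1, k₁, ha, (hΦ _).1, map_neg, brP_y, PowerSeries.rescale_neg_one_X]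
      · rw [hQ', (hΦ _).2, k₂, hb, (hΦ _).2, map_neg, brQ_y, map_neg, PowerSeries.rescale_neg_one_X, neg_neg]

end Groth.Agent.ArSingLib
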