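import Mathlib
import Groth.Agent.ArSingLib.ClassHigh
import Groth.Agent.ArSingLib.ClassLow

/-!
# The classification of involutions of `A_r`
-/

set_option autoImplicit false
set_option linter.style.haveILetI false

universe u

noncomputable section

namespace Groth.Agent.ArSingLib

open IsLocalRing

variable {k : Type u} [Field k]

theorem class_signs [IsAlgClosed k] (r : ℕ) (hr : 2 ≤ r) (h2 : (2 : k) ≠ 0)
    (σ : ArSing.ring k r ≃ₐ[k] ArSing.ring k r) (hσ : ∀ a, σ (σ a) = a) (hne : σ ≠ AlgEquiv.refl) :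
    ∃ (φ : ArSing.ring k r ≃ₐ[k] ArSing.ring k r) (l ν : k),
      (l = 1 ∨ l = -1) ∧ (ν = 1 ∨ ν = -1) ∧ l ^ (r + 1) = 1 ∧ ¬ (l = 1 ∧ ν = 1) ∧
      φ.symm (σ (φ (ArSing.x k r))) = l • ArSing.x k r ∧
      φ.symm (σ (φ (ArSing.y k r))) = ν • ArSing.y k r := by
  obtain ⟨φ, l, ν, hl, hν, hlr, hx, hy⟩ := class_high r hr h2 σ hσ
  refine ⟨φ, l, ν, sq_eq_one_iff.1 hl, sq_eq_one_iff.1 hν, hlr, fun ⟨h1, h3⟩ => hne ?_, hx, hy⟩
  rw [h1, one_smul, AlgEquiv.symm_apply_eq] at hx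
  rw [h3, one_smul, AlgEquiv.symm_apply_eq] at hy
  have h : (σ.toAlgHom.comp φ.toAlgHom) = φ.toAlgHom := by
    refine ringExt r ?_ (by simpa using hx) (by simpa using hy)
    show σ (φ (ArSing.x k r)) ∈ _
    rw [hx]
    exact fun hu => x_mem r (by simpa using hu.map φ.symm)
  refine AlgEquiv.ext fun z => ?_
  simpa using DFunLike.congr_fun h (φ.symm z)

end Groth.Agent.ArSingLib
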