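import Mathlib

/-!
# Curvilinear algebras
-/

set_option autoImplicit false
set_option linter.style.haveILetI false

universe u

noncomputable section

namespace Groth.Agent.ArSingLib

open Polynomial IsLocalRing

theorem exists_trunc_equiv (k B : Type u) [Field k] [IsAlgClosed k]
    [CommRing B] [IsLocalRing B] [Algebra k B] [Module.Finite k B]
    (hp : (maximalIdeal B).IsPrincipal) :
    Nonempty (B ≃ₐ[k] (Polynomial k ⧸ Ideal.span {(X : Polynomial k) ^ Module.finrank k B})) := by
  classical
  haveI : IsArtinianRing B := isArtinian_of_tower k (inferInstance : IsArtinian k B)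
  obtain ⟨N, hN⟩ := IsArtinianRing.isNilpotent_jacobson_bot (R := B)
  rw [IsLocalRing.jacobson_eq_maximalIdeal ⊥ bot_ne_top, Ideal.zero_eq_bot] at hN
  obtain ⟨t, ht⟩ := hp.principal
  have ht' : maximalIdeal B = Ideal.span {t} := ht
  have hres : Function.Surjective (algebraMap k (ResidueField B)) := by
    haveI : Module.Finite k (ResidueField B) := Module.Finite.of_surjective
      (Ideal.Quotient.mkₐ k (maximalIdeal B)).toLinearMap Ideal.Quotient.mk_surjective
    exact (IsAlgClosed.algebraMap_bijective_of_isIntegral (k := k)).2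
  let φ : Polynomial k →ₐ[k] B := Polynomial.aeval t
  have hstep : ∀ b : B, ∃ c : k, ∃ b', b = algebraMap k B c + t * b' := fun b => by
    obtain ⟨c, hc⟩ := hres (residue B b)
    have h : b - algebraMap k B c ∈ maximalIdeal B := by
      rw [← IsLocalRing.residue_eq_zero_iff, map_sub, sub_eq_zero, ← hc]; rfl
    rw [ht', Ideal.mem_span_singleton] at h
    obtain ⟨b', hb'⟩ := h
    exact ⟨c, b', by rw [← hb']; ring⟩
  have htN : t ^ N = 0 := by
    have : t ^ N ∈ maximalIdeal B ^ N := Ideal.pow_mem_pow (ht' ▸ Ideal.mem_span_singleton_self t) N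
    rwa [hN, Ideal.mem_bot] at this
  have hsurj : Function.Surjective φ := fun b => by
    have key : ∀ n b, ∃ p b', b = φ p + t ^ n * b' := by
      intro n
      induction n with
      | zero => exact fun b => ⟨0, b, by simp⟩
      | succ n ih =>
        intro b
        obtain ⟨p, b', hb⟩ := ih b
        obtain ⟨c, b'', hb'⟩ := hstep b'
        exact ⟨p + C c * X ^ n, b'', by simp [φ, hb, hb']; ring⟩
    obtain ⟨p, b', hb⟩ := key N b
    exact ⟨p, by rw [hb, htN]; simp⟩
  obtain ⟨g, hg⟩ : ∃ g, RingHom.ker φ.toRingHom = Ideal.span {g} :=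
    ⟨_, (Ideal.span_singleton_generator _).symm⟩
  have hXN : (X : Polynomial k) ^ N ∈ Ideal.span {g} := by
    rw [← hg, RingHom.mem_ker]; simp [φ, htN]
  obtain ⟨i, -, hi⟩ := (dvd_prime_pow Polynomial.prime_X N).1 (Ideal.mem_span_singleton.1 hXN)
  have hker : RingHom.ker φ.toRingHom = Ideal.span {X ^ i} :=
    hg.trans (Ideal.span_singleton_eq_span_singleton.2 hi)
  let e : (Polynomial k ⧸ Ideal.span {(X : Polynomial k) ^ i}) ≃ₐ[k] B :=
    (Ideal.quotientEquivAlgOfEq k hker.symm).trans (Ideal.quotientKerAlgEquivOfSurjective (f := φ) hsurj)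
  have hfr : Module.finrank k B = i := by
    rw [← e.toLinearEquiv.finrank_eq, finrank_quotient_span_eq_natDegree, natDegree_X_pow]
  exact ⟨e.symm.trans (Ideal.quotientEquivAlgOfEq k (by rw [hfr]))⟩

theorem principal_of_flat (k : Type u) [Field k] (n : ℕ) (hn : 0 < n)
    (A : Subalgebra k (Polynomial k ⧸ Ideal.span {(X : Polynomial k) ^ n}))
    [Module.Flat A (Polynomial k ⧸ Ideal.span {(X : Polynomial k) ^ n})] :
    ∃ _ : IsLocalRing A, Module.Finite k A ∧ (maximalIdeal A).IsPrincipal := by
  classical
  let B := Polynomial k ⧸ Ideal.span {(X : Polynomial k) ^ n}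
  haveI : Nontrivial B := Ideal.Quotient.nontrivial_iff.2 fun h => by
    rw [Ideal.span_singleton_eq_top, isUnit_pow_iff hn.ne'] at h
    exact Polynomial.not_isUnit_X h
  haveI : IsPrincipalIdealRing B :=
    IsPrincipalIdealRing.of_surjective (Ideal.Quotient.mk _) Ideal.Quotient.mk_surjective
  haveI hfin : Module.Finite k B := Polynomial.Monic.finite_quotient (monic_X_pow n)
  haveI : IsLocalRing B := by
    refine IsLocalRing.of_isUnit_or_isUnit_one_sub_self fun b => ?_
    obtain ⟨p, rfl⟩ := Ideal.Quotient.mk_surjective b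
    have hnil : IsNilpotent (Ideal.Quotient.mk (Ideal.span {(X : Polynomial k) ^ n}) X) :=
      ⟨n, by rw [← map_pow]; exact Ideal.Quotient.eq_zero_iff_mem.2 (Ideal.mem_span_singleton_self _)⟩
    have hp : Ideal.Quotient.mk (Ideal.span {(X : Polynomial k) ^ n}) p =
        algebraMap k B (p.coeff 0) + Ideal.Quotient.mk _ X * Ideal.Quotient.mk _ p.divX := by
      conv_lhs => rw [← Polynomial.X_mul_divX_add p]
      rw [map_add, map_mul, add_comm]; rfl
    have hn' := (Commute.all _ (Ideal.Quotient.mk (Ideal.span {(X : Polynomial k) ^ n}) p.divX)).isNilpotent_mul_right hnil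
    by_cases h0 : p.coeff 0 = 0
    · right
      rw [hp, h0, map_zero, zero_add]
      exact hn'.isUnit_one_sub
    · left
      rw [hp]
      exact hn'.isUnit_add_left_of_commute ((isUnit_iff_ne_zero.2 h0).map (algebraMap k B)) (Commute.all _ _)
  haveI : Module.Finite k A := Module.Finite.of_injective A.val.toLinearMap Subtype.val_injective
  haveI : IsLocalHom (algebraMap A B) := by
    refine ⟨fun a ha => ?_⟩
    haveI : Module.Finite A B := Module.Finite.of_restrictScalars_finite k A B
    exact (Algebra.IsIntegral.isLocalHom (R := A) (S := B)).map_nonunit a ha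
  haveI hA : IsLocalRing A := (algebraMap A B).domain_isLocalRing
  haveI : Module.FaithfullyFlat A B := @Module.FaithfullyFlat.of_flat_of_isLocalHom A B _ _ _ _ _ ‹_› ‹_›
  refine ⟨hA, inferInstance, ?_⟩
  obtain ⟨g, hg⟩ := IsPrincipalIdealRing.principal ((maximalIdeal A).map (algebraMap A B))
  have hg' : (maximalIdeal A).map (algebraMap A B) = Ideal.span {g} := hg
  have hmem : ∀ a ∈ maximalIdeal A, ∃ c, algebraMap A B a = g * c := fun a ha =>
    Ideal.mem_span_singleton.1 (hg' ▸ Ideal.mem_map_of_mem _ ha)
  by_cases hu : ∃ a ∈ maximalIdeal A, ∃ c, algebraMap A B a = g * c ∧ IsUnit c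
  · obtain ⟨a, ha, c, hac, hc⟩ := hu
    refine ⟨⟨a, ?_⟩⟩
    show maximalIdeal A = Ideal.span {a}
    refine le_antisymm (fun x hx => ?_) ((Ideal.span_singleton_le_iff_mem _).2 ha)
    rw [← Ideal.comap_map_eq_self_of_faithfullyFlat (B := B) (Ideal.span {a}), Ideal.mem_comap, Ideal.map_span,
      Set.image_singleton, hac, Ideal.mem_span_singleton]
    obtain ⟨d, hd⟩ := hmem x hx
    exact hd ▸ (hc.mul_right_dvd.2 dvd_rfl).trans (dvd_mul_right g d)
  · push Not at hu
    have hle : (maximalIdeal A).map (algebraMap A B) ≤ Ideal.span {g} * maximalIdeal B :=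
      Ideal.map_le_iff_le_comap.2 fun a ha => by
        obtain ⟨c, hc⟩ := hmem a ha
        rw [Ideal.mem_comap, hc]
        exact Ideal.mul_mem_mul (Ideal.mem_span_singleton_self g) ((mem_maximalIdeal _).2 (hu a ha c hc))
    have h0 : g = 0 := by
      obtain ⟨c, hc, hgc⟩ := Ideal.mem_span_singleton_mul.1 (hle (hg' ▸ Ideal.mem_span_singleton_self g))
      have h1 : IsUnit (1 - c) := (IsLocalRing.isUnit_or_isUnit_one_sub_self c).resolve_left hc
      exact h1.mul_left_eq_zero.1 (by rw [mul_sub, mul_one, hgc, sub_self])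
    refine ⟨⟨0, ?_⟩⟩
    show maximalIdeal A = Ideal.span {0}
    rw [Ideal.span_singleton_zero, eq_bot_iff]
    intro x hx
    obtain ⟨d, hd⟩ := hmem x hx
    rw [h0, zero_mul] at hd
    exact Subtype.ext hd

theorem esymm_cons {A : Type u} [CommRing A] (a : A) (s : Multiset A) (n : ℕ) :
    (a ::ₘ s).esymm (n + 1) = s.esymm (n + 1) + a * s.esymm n := by
  simp [Multiset.esymm, Multiset.powersetCard_cons, Multiset.sum_map_mul_left]

theorem prod_adjacent (A : Type u) [CommRing A] (τ : A) (h : ℕ → A) : ∀ k : ℕ,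
    (∀ i, i < k + 1 → h i ^ 2 + τ * h i = 0) →
    (∏ i ∈ Finset.range k, (h i + h (i + 1) + τ)) * h k = ∏ i ∈ Finset.range (k + 1), h i ∧
    ∏ i ∈ Finset.range k, (h i + h (i + 1) + τ) =
      ∑ j ∈ Finset.range (k + 1), τ ^ (k - j) * (((Finset.range (k + 1)).val.map h).esymm j) := by
  intro k
  induction k with
  | zero => intro; simp [Multiset.esymm]
  | succ k ih =>
    intro hrel
    obtain ⟨h1, h3⟩ := ih fun i hi => hrel i (by omega)
    have hk := hrel (k + 1) (by omega)
    set P := ∏ i ∈ Finset.range k, (h i + h (i + 1) + τ) with hP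
    refine ⟨?_, ?_⟩
    · rw [Finset.prod_range_succ, ← hP, Finset.prod_range_succ (n := k + 1), ← h1]
      linear_combination P * hk
    · rw [Finset.prod_range_succ, ← hP]
      have hv : (Finset.range (k + 1 + 1)).val.map h = h (k + 1) ::ₘ (Finset.range (k + 1)).val.map h := by
        rw [Finset.range_add_one, Finset.insert_val, Multiset.ndinsert_of_notMem (by simp), Multiset.map_cons]
      set s := (Finset.range (k + 1)).val.map h with hs
      have htop : s.esymm (k + 1) = ∏ i ∈ Finset.range (k + 1), h i := by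
        have hcard : Multiset.card s = k + 1 := by simp [hs]
        rw [show s.esymm (k + 1) = s.prod by
          rw [← hcard, Multiset.esymm, Multiset.powersetCard_self, Multiset.map_singleton, Multiset.sum_singleton],
          Finset.prod_eq_multiset_prod]
      rw [hv, Finset.sum_range_succ', show (h (k + 1) ::ₘ s).esymm 0 = 1 by simp [Multiset.esymm]]
      simp only [esymm_cons, mul_add, Finset.sum_add_distrib, Nat.add_sub_add_right, Nat.sub_zero, mul_one]
      have e1 : ∑ j ∈ Finset.range (k + 1), τ ^ (k - j) * (h (k + 1) * s.esymm j) = h (k + 1) * P := by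
        rw [h3, Finset.mul_sum]; exact Finset.sum_congr rfl fun _ _ => by ring
      have e2 : ∑ j ∈ Finset.range (k + 1), τ ^ (k - j) * s.esymm (j + 1) + τ ^ (k + 1) =
          τ * P + s.esymm (k + 1) := by
        rw [h3, Finset.sum_range_succ, Nat.sub_self, pow_zero, one_mul, Finset.sum_range_succ' _ k, Nat.sub_zero,
          show s.esymm 0 = 1 by simp [Multiset.esymm], mul_add, Finset.mul_sum, mul_one, ← pow_succ']
        have : ∀ j ∈ Finset.range k, τ * (τ ^ (k - (j + 1)) * s.esymm (j + 1)) = τ ^ (k - j) * s.esymm (j + 1) :=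
          fun j hj => by
            rw [← mul_assoc, ← pow_succ']; congr 2; have := Finset.mem_range.1 hj; omega
        rw [Finset.sum_congr rfl this]; ring
      rw [htop, ← h1] at e2
      linear_combination -e1 - e2

theorem prod_shift (A : Type u) [CommRing A] (h τ : A) (m : ℕ) : ∀ n, n ≤ m →
    (∏ i ∈ Finset.range n, (h + (i : A) * τ)) * ∏ i ∈ Finset.range m, (h + (i : A) * τ) =
      ∑ s ∈ Finset.range (n + 1), (-1 : A) ^ s * (Nat.factorial s : A) * (Nat.choose n s : A) *
        (Nat.choose m s : A) * τ ^ s * ∏ i ∈ Finset.range (m + n - s), (h + (i : A) * τ) := by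
  intro n
  induction n with
  | zero => intro _; simp
  | succ n ih =>
    intro hn
    have hih := ih (by omega)
    set P : ℕ → A := fun N => ∏ i ∈ Finset.range N, (h + (i : A) * τ)
    let c : ℕ → ℕ → A := fun n s => (-1 : A) ^ s * (Nat.factorial s : A) * (Nat.choose n s : A) *
      (Nat.choose m s : A) * τ ^ s
    change P n * P m = ∑ s ∈ Finset.range (n + 1), c n s * P (m + n - s) at hih
    show P (n + 1) * P m = ∑ s ∈ Finset.range (n + 1 + 1), c (n + 1) s * P (m + (n + 1) - s)
    have hP : ∀ N, P (N + 1) = P N * (h + (N : A) * τ) := fun N => Finset.prod_range_succ _ _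
    have hstep : ∀ s ∈ Finset.range (n + 1), c n s * P (m + n - s) * (h + (n : A) * τ) =
        c n s * P (m + n + 1 - s) + (-((m : A) - (s : A)) * τ * c n s) * P (m + n - s) := fun s hs => by
      have hs' := Finset.mem_range.1 hs
      rw [show m + n + 1 - s = (m + n - s) + 1 by omega, hP]
      push_cast [Nat.cast_sub (show s ≤ m + n by omega)]
      ring
    have hcoef : ∀ s ≤ n, c (n + 1) (s + 1) = c n (s + 1) + -((m : A) - (s : A)) * τ * c n s := fun s hs => by
      have e : (Nat.factorial (s + 1) : A) * (Nat.choose m (s + 1) : A) =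
          (Nat.factorial s : A) * (Nat.choose m s : A) * ((m : A) - (s : A)) := by
        have := congrArg (fun x : ℕ => (x : A)) (Nat.choose_succ_right_eq m s)
        push_cast [Nat.cast_sub (show s ≤ m by omega)] at this
        rw [Nat.factorial_succ]; push_cast
        linear_combination (Nat.factorial s : A) * this
      simp only [c, Nat.choose_succ_succ' n s]
      push_cast
      linear_combination ((-1 : A) ^ (s + 1) * τ ^ (s + 1) * (Nat.choose n s : A)) * e
    rw [hP, mul_right_comm, hih, Finset.sum_mul, Finset.sum_congr rfl hstep, Finset.sum_add_distrib,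
      Finset.sum_range_succ' (fun s => c n s * P (m + n + 1 - s)) n,
      Finset.sum_range_succ' (fun s => c (n + 1) s * P (m + (n + 1) - s)) (n + 1)]
    have e0 : c (n + 1) 0 * P (m + (n + 1) - 0) = c n 0 * P (m + n + 1 - 0) := by simp [c, add_assoc]
    have e1 : ∑ s ∈ Finset.range (n + 1), c (n + 1) (s + 1) * P (m + (n + 1) - (s + 1)) =
        ∑ s ∈ Finset.range (n + 1), c n (s + 1) * P (m + n + 1 - (s + 1)) +
          ∑ s ∈ Finset.range (n + 1), -((m : A) - (s : A)) * τ * c n s * P (m + n - s) := by
      rw [← Finset.sum_add_distrib]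
      refine Finset.sum_congr rfl fun s hs => ?_
      rw [hcoef s (by have := Finset.mem_range.1 hs; omega), show m + (n + 1) - (s + 1) = m + n - s by omega,
        show m + n + 1 - (s + 1) = m + n - s by omega, add_mul]
    rw [e1, e0, Finset.sum_range_succ (fun s => c n (s + 1) * P (m + n + 1 - (s + 1))) n,
      show c n (n + 1) = 0 by simp [c]]
    ring

end Groth.Agent.ArSingLib
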