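import Mathlib
import Groth.Agent.ArSingLib.PSInvol

/-!
# Plane curve germs: recentring, coordinate changes, restriction to lines
-/

set_option autoImplicit false
set_option linter.style.haveILetI false

universe u

noncomputable section

namespace Groth.Agent.ArSingLib

open IsLocalRing

variable {k : Type u} [Field k]

instance instIsDomainP : IsDomain (MvPowerSeries (Fin 2) k) := NoZeroDivisors.to_isDomain _

/-- Recentring of a polynomial. -/
def shift (a : Fin 2 → k) : MvPolynomial (Fin 2) k →ₐ[k] MvPolynomial (Fin 2) k :=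
  MvPolynomial.aeval fun i : Fin 2 => MvPolynomial.X i + MvPolynomial.C (a i)

theorem eval_shift (a : Fin 2 → k) (f : MvPolynomial (Fin 2) k) :
    MvPolynomial.eval 0 (shift a f) = MvPolynomial.eval a f := by
  have h : (MvPolynomial.aeval (0 : Fin 2 → k)).comp (shift a) = MvPolynomial.aeval a :=
    MvPolynomial.algHom_ext fun i => by simp [shift]
  simpa [MvPolynomial.aeval_eq_eval] using DFunLike.congr_fun h f

theorem pderiv_shift (a : Fin 2 → k) (i : Fin 2) (f : MvPolynomial (Fin 2) k) :
    MvPolynomial.pderiv i (shift a f) = shift a (MvPolynomial.pderiv i f) := by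
  induction f using MvPolynomial.induction_on with
  | C c => simp [shift]
  | add p q hp hq => simp [map_add, hp, hq]
  | mul_X p j hp =>
    have hX : shift a (MvPolynomial.X j) = MvPolynomial.X j + MvPolynomial.C (a j) := MvPolynomial.aeval_X _ _
    rw [map_mul, MvPolynomial.pderiv_mul, hp, MvPolynomial.pderiv_mul, map_add, map_mul, map_mul, hX, map_add,
      MvPolynomial.pderiv_C, add_zero]
    congr 2
    rcases eq_or_ne j i with rfl | hne
    · rw [MvPolynomial.pderiv_X_self, map_one]
    · rw [MvPolynomial.pderiv_X_of_ne hne, map_zero]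

theorem shift_injective (a : Fin 2 → k) : Function.Injective (shift a) := by
  have h : (shift (-a)).comp (shift a) = AlgHom.id k _ :=
    MvPolynomial.algHom_ext fun i => by simp [shift, add_assoc]
  intro p q e
  have hp := DFunLike.congr_fun h p
  have hq := DFunLike.congr_fun h q
  simp only [AlgHom.comp_apply, AlgHom.coe_id, id_eq] at hp hq
  rw [← hp, ← hq, e]

theorem mem_max_iff_P {f : MvPowerSeries (Fin 2) k} :
    f ∈ maximalIdeal (MvPowerSeries (Fin 2) k) ↔ MvPowerSeries.constantCoeff f = 0 :=
  WildQuotLib.mem_maximalIdeal_iff_constantCoeff (k := k) (n := 2) f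

theorem max_P_eq : maximalIdeal (MvPowerSeries (Fin 2) k) =
    Ideal.span {MvPowerSeries.X 0, MvPowerSeries.X 1} := by
  rw [WildQuotLib.maximalIdeal_eq]
  congr 1
  ext z
  simp only [Set.mem_range, Set.mem_insert_iff, Set.mem_singleton_iff, Fin.exists_fin_two]
  constructor <;> rintro (h | h) <;> simp [h]

theorem coeff_single_X_mul (i j : Fin 2) (A : MvPowerSeries (Fin 2) k) :
    MvPowerSeries.coeff (Finsupp.single i 1) (MvPowerSeries.X j * A) =
      if j = i then MvPowerSeries.constantCoeff A else 0 := by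
  classical
  rw [MvPowerSeries.X_def, MvPowerSeries.coeff_monomial_mul, one_mul]
  rcases eq_or_ne j i with rfl | hne
  · rw [if_pos le_rfl, if_pos rfl, tsub_self, MvPowerSeries.coeff_zero_eq_constantCoeff_apply]
  · rw [if_neg ?_, if_neg hne]
    intro h
    have := h j
    rw [Finsupp.single_eq_same, Finsupp.single_eq_of_ne hne] at this
    omega

theorem linear_part {f : MvPowerSeries (Fin 2) k} (h : MvPowerSeries.constantCoeff f = 0) :
    f - (MvPowerSeries.C (MvPowerSeries.coeff (Finsupp.single 0 1) f) * MvPowerSeries.X 0 +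
      MvPowerSeries.C (MvPowerSeries.coeff (Finsupp.single 1 1) f) * MvPowerSeries.X 1) ∈
      maximalIdeal (MvPowerSeries (Fin 2) k) ^ 2 := by
  classical
  obtain ⟨A, B, rfl⟩ := Ideal.mem_span_pair.1 (max_P_eq (k := k) ▸ mem_max_iff_P.2 h)
  rw [mul_comm A, mul_comm B]
  simp only [map_add, coeff_single_X_mul]
  simp only [if_pos, if_neg, zero_ne_one, one_ne_zero, if_false, map_zero, add_zero, zero_add]
  rw [show MvPowerSeries.X 0 * A + MvPowerSeries.X 1 * B -
      (MvPowerSeries.C (MvPowerSeries.constantCoeff A) * MvPowerSeries.X 0 +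
        MvPowerSeries.C (MvPowerSeries.constantCoeff B) * MvPowerSeries.X 1) =
      MvPowerSeries.X 0 * (A - MvPowerSeries.C (MvPowerSeries.constantCoeff A)) +
        MvPowerSeries.X 1 * (B - MvPowerSeries.C (MvPowerSeries.constantCoeff B)) by ring, pow_two]
  exact add_mem (Ideal.mul_mem_mul (mem_max_iff_P.2 (MvPowerSeries.constantCoeff_X _)) (mem_max_iff_P.2 (by simp)))
    (Ideal.mul_mem_mul (mem_max_iff_P.2 (MvPowerSeries.constantCoeff_X _)) (mem_max_iff_P.2 (by simp)))

/-- A coordinate change. -/
theorem exists_coord (u : Fin 2 → MvPowerSeries (Fin 2) k) (h0 : ∀ i, MvPowerSeries.constantCoeff (u i) = 0)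
    (hgen : maximalIdeal (MvPowerSeries (Fin 2) k) ≤
      Ideal.span (Set.range u) ⊔ maximalIdeal (MvPowerSeries (Fin 2) k) ^ 2) :
    ∃ ψ : MvPowerSeries (Fin 2) k ≃ₐ[k] MvPowerSeries (Fin 2) k, ∀ i, ψ (MvPowerSeries.X i) = u i := by
  have hm : (maximalIdeal (MvPowerSeries (Fin 2) k)).map (substHom u h0) = Ideal.span (Set.range u) := by
    rw [WildQuotLib.maximalIdeal_eq, Ideal.map_span, ← Set.range_comp]
    exact congrArg (fun s => Ideal.span (Set.range s)) (funext (substHom_X u h0))
  have hs : Function.Surjective (substHom u h0) := by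
    refine CompleteSurjLib.surjective_of_cotangent (fun z => ?_) (substHom u h0) ?_ ?_
    · obtain ⟨z, rfl⟩ := IsLocalRing.residue_surjective z
      refine ⟨MvPowerSeries.constantCoeff z, ?_⟩
      rw [RingHom.comp_apply, ← sub_eq_zero, ← map_sub, IsLocalRing.residue_eq_zero_iff, mem_max_iff_P, map_sub,
        show algebraMap k (MvPowerSeries (Fin 2) k) (MvPowerSeries.constantCoeff z) =
          MvPowerSeries.C (MvPowerSeries.constantCoeff z) from rfl, MvPowerSeries.constantCoeff_C, sub_self]
    · rw [hm, Ideal.span_le]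
      rintro _ ⟨i, rfl⟩
      exact mem_max_iff_P.2 (h0 i)
    · rw [hm]; exact hgen
  exact ⟨AlgEquiv.ofBijective _ ⟨PowerSeriesInvLib.injective_of_surjective_endo (substHom u h0).toRingHom hs, hs⟩,
    substHom_X u h0⟩

/-- Associated equations give isomorphic germs. -/
theorem nonempty_quotEquiv (ψ : MvPowerSeries (Fin 2) k ≃ₐ[k] MvPowerSeries (Fin 2) k)
    {G F : MvPowerSeries (Fin 2) k} (h : Associated (ψ G) F) :
    Nonempty ((MvPowerSeries (Fin 2) k ⧸ Ideal.span {G}) ≃ₐ[k] (MvPowerSeries (Fin 2) k ⧸ Ideal.span {F})) := by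
  refine ⟨Ideal.quotientEquivAlg _ _ ψ ?_⟩
  rw [Ideal.map_span, Set.image_singleton]
  exact Ideal.span_singleton_eq_span_singleton.2 h.symm

/-- The restriction to the line through the origin with direction `(α, β)`. -/
def line (α β : k) : MvPowerSeries (Fin 2) k →ₐ[k] PowerSeries k :=
  substHom (τ := Unit) ![PowerSeries.C α * PowerSeries.X, PowerSeries.C β * PowerSeries.X]
    (vec_const (PowerSeries.C α * PowerSeries.X : PowerSeries k) (PowerSeries.C β * PowerSeries.X : PowerSeries k)
      (show PowerSeries.constantCoeff (PowerSeries.C α * PowerSeries.X) = 0 by simp)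
      (show PowerSeries.constantCoeff (PowerSeries.C β * PowerSeries.X) = 0 by simp))

theorem line_X0 (α β : k) : line α β (MvPowerSeries.X 0) = PowerSeries.C α * PowerSeries.X :=
  substHom_X (τ := Unit) ![PowerSeries.C α * PowerSeries.X, PowerSeries.C β * PowerSeries.X] _ 0

theorem line_X1 (α β : k) : line α β (MvPowerSeries.X 1) = PowerSeries.C β * PowerSeries.X :=
  substHom_X (τ := Unit) ![PowerSeries.C α * PowerSeries.X, PowerSeries.C β * PowerSeries.X] _ 1

/-- The restriction of a recentred polynomial to a line, as a polynomial. -/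
def linePoly (α β : k) : MvPolynomial (Fin 2) k →ₐ[k] Polynomial k :=
  MvPolynomial.aeval ![Polynomial.C α * Polynomial.X, Polynomial.C β * Polynomial.X]

theorem line_coe (α β : k) (g : MvPolynomial (Fin 2) k) :
    line α β (g.toMvPowerSeries) = (linePoly α β g : PowerSeries k) := by
  have h : (line α β).comp (MvPolynomial.coeToMvPowerSeries.algHom k) =
      (Polynomial.coeToPowerSeries.algHom k).comp (linePoly α β) := by
    refine MvPolynomial.algHom_ext fun i => ?_
    fin_cases i <;> simp [linePoly, line_X0, line_X1]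
  simpa using DFunLike.congr_fun h g

theorem derivative_linePoly (α β : k) (g : MvPolynomial (Fin 2) k) :
    Polynomial.derivative (linePoly α β g) =
      Polynomial.C α * linePoly α β (MvPolynomial.pderiv 0 g) +
        Polynomial.C β * linePoly α β (MvPolynomial.pderiv 1 g) := by
  induction g using MvPolynomial.induction_on with
  | C c => simp [linePoly]
  | add p q hp hq => simp only [map_add, hp, hq]; ring
  | mul_X p j hp =>
    simp only [map_mul, Polynomial.derivative_mul, hp, MvPolynomial.pderiv_mul, map_add]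
    fin_cases j <;> simp [linePoly, MvPolynomial.pderiv_X_of_ne] <;> ring

theorem coeff_zero_linePoly (α β : k) (g : MvPolynomial (Fin 2) k) :
    (linePoly α β g).coeff 0 = MvPolynomial.eval 0 g := by
  have h : (Polynomial.aeval (0 : k)).comp (linePoly α β) = MvPolynomial.aeval (0 : Fin 2 → k) :=
    MvPolynomial.algHom_ext fun i => by fin_cases i <;> simp [linePoly]
  have := DFunLike.congr_fun h g
  simpa [MvPolynomial.aeval_eq_eval, Polynomial.coe_aeval_eq_eval, ← Polynomial.coeff_zero_eq_eval_zero] using this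

theorem coeff_one_linePoly (α β : k) (g : MvPolynomial (Fin 2) k) :
    (linePoly α β g).coeff 1 = α * MvPolynomial.eval 0 (MvPolynomial.pderiv 0 g) +
      β * MvPolynomial.eval 0 (MvPolynomial.pderiv 1 g) := by
  have := congrArg (fun p => Polynomial.coeff p 0) (derivative_linePoly α β g)
  simpa [Polynomial.coeff_derivative, coeff_zero_linePoly] using this

theorem coeff_two_linePoly (α β : k) (g : MvPolynomial (Fin 2) k) :
    2 * (linePoly α β g).coeff 2 =
      α * (α * MvPolynomial.eval 0 (MvPolynomial.pderiv 0 (MvPolynomial.pderiv 0 g)) +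
        β * MvPolynomial.eval 0 (MvPolynomial.pderiv 1 (MvPolynomial.pderiv 0 g))) +
      β * (α * MvPolynomial.eval 0 (MvPolynomial.pderiv 0 (MvPolynomial.pderiv 1 g)) +
        β * MvPolynomial.eval 0 (MvPolynomial.pderiv 1 (MvPolynomial.pderiv 1 g))) := by
  have := congrArg (fun p => Polynomial.coeff p 1) (derivative_linePoly α β g)
  simp only [Polynomial.coeff_derivative, Polynomial.coeff_add, Polynomial.coeff_C_mul, coeff_one_linePoly] at this
  rw [← this]
  norm_num
  ring

theorem coeff_single_eq_eval (g : MvPolynomial (Fin 2) k) (i : Fin 2) :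
    g.coeff (Finsupp.single i 1) = MvPolynomial.eval 0 (MvPolynomial.pderiv i g) := by
  rw [MvPolynomial.eval_zero, MvPolynomial.constantCoeff_eq, MvPolynomial.coeff_pderiv]
  simp

theorem mem_max_cube {g : MvPolynomial (Fin 2) k} (h2 : (2 : k) ≠ 0) (h0 : MvPolynomial.eval 0 g = 0)
    (h1 : ∀ i, MvPolynomial.eval 0 (MvPolynomial.pderiv i g) = 0)
    (hh : ∀ i j, MvPolynomial.eval 0 (MvPolynomial.pderiv i (MvPolynomial.pderiv j g)) = 0) :
    g.toMvPowerSeries ∈ maximalIdeal (MvPowerSeries (Fin 2) k) ^ 3 := by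
  classical
  have hg : g ∈ MvPolynomial.idealOfVars (Fin 2) k ^ 3 := by
    rw [MvPolynomial.mem_pow_idealOfVars_iff']
    intro e he
    have hdeg : e 0 + e 1 < 3 := by
      rwa [Finsupp.degree_eq_sum, Fin.sum_univ_two] at he
    rw [← idx_eta e]
    generalize e 0 = n at hdeg ⊢
    generalize e 1 = m at hdeg ⊢
    have c2 : ∀ i j : Fin 2, g.coeff (Finsupp.single i 1 + Finsupp.single j 1) = 0 := fun i j => by
      have h := hh i j
      rw [← coeff_single_eq_eval, MvPolynomial.coeff_pderiv] at h
      refine (mul_eq_zero.1 h).resolve_right ?_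
      rcases eq_or_ne i j with rfl | hne
      · simpa [one_add_one_eq_two] using h2
      · simp [Finsupp.single_eq_of_ne hne.symm]
    have c1 : ∀ i : Fin 2, g.coeff (Finsupp.single i 1) = 0 := fun i => by rw [coeff_single_eq_eval, h1]
    obtain rfl | rfl | rfl : n = 0 ∨ n = 1 ∨ n = 2 := by omega
    all_goals obtain rfl | rfl | rfl : m = 0 ∨ m = 1 ∨ m = 2 := by omega
    all_goals first | omega | skip
    · simpa [idx, MvPolynomial.eval_zero, MvPolynomial.constantCoeff_eq] using h0
    · simpa [idx] using c1 1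
    · simpa [idx, ← Finsupp.single_add] using c2 1 1
    · simpa [idx] using c1 0
    · simpa [idx] using c2 0 1
    · simpa [idx, ← Finsupp.single_add] using c2 0 0
  refine Ideal.pow_right_mono (?_ : (MvPolynomial.idealOfVars (Fin 2) k).map
    MvPolynomial.coeToMvPowerSeries.ringHom ≤ maximalIdeal (MvPowerSeries (Fin 2) k)) 3 ?_
  · rw [MvPolynomial.idealOfVars, Ideal.map_span, Ideal.span_le]
    rintro _ ⟨_, ⟨i, rfl⟩, rfl⟩
    exact mem_max_iff_P.2 (by simp)
  · rw [← Ideal.map_pow]
    exact Ideal.mem_map_of_mem MvPolynomial.coeToMvPowerSeries.ringHom hg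

end Groth.Agent.ArSingLib
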