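import Mathlib
import Groth.Agent.ArSingLib.Plane
import Groth.Agent.ArtFunLib.PS

/-!
# Normal forms of plane germs of multiplicity at most two
-/

set_option autoImplicit false
set_option linter.style.haveILetI false

universe u

noncomputable section

namespace Groth.Agent.ArSingLib

open IsLocalRing

variable {k : Type u} [Field k]

theorem lineExt {f g : MvPowerSeries (Fin 2) k →ₐ[k] PowerSeries k}
    (h0 : ∀ i, PowerSeries.constantCoeff (f (MvPowerSeries.X i)) = 0)
    (h : ∀ i, f (MvPowerSeries.X i) = g (MvPowerSeries.X i)) : f = g :=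
  ArtFunLib.ps_ext (Ideal.span {(PowerSeries.X : PowerSeries k)})
    (fun i => Ideal.mem_span_singleton.2 (PowerSeries.X_dvd_iff.2 (h0 i))) h

theorem line_comp (ψ : MvPowerSeries (Fin 2) k →ₐ[k] MvPowerSeries (Fin 2) k) (a b α β : k)
    (h0 : line a b (ψ (MvPowerSeries.X 0)) = PowerSeries.C α * PowerSeries.X)
    (h1 : line a b (ψ (MvPowerSeries.X 1)) = PowerSeries.C β * PowerSeries.X) :
    (line a b).comp ψ = line α β :=
  lineExt (Fin.forall_fin_two.2 ⟨by simp [h0], by simp [h1]⟩)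
    (Fin.forall_fin_two.2 ⟨by simp [h0, line_X0], by simp [h1, line_X1]⟩)

theorem span_pair_range (u v : MvPowerSeries (Fin 2) k) :
    Ideal.span (Set.range ![u, v]) = Ideal.span {u, v} := by
  congr 1
  ext z
  simp only [Set.mem_range, Set.mem_insert_iff, Set.mem_singleton_iff, Fin.exists_fin_two]
  constructor <;> rintro (h | h) <;> simp_all

theorem pair_le {u v : MvPowerSeries (Fin 2) k}
    (hx : MvPowerSeries.X 0 ∈ Ideal.span {u, v} ⊔ maximalIdeal (MvPowerSeries (Fin 2) k) ^ 2)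
    (hy : MvPowerSeries.X 1 ∈ Ideal.span {u, v} ⊔ maximalIdeal (MvPowerSeries (Fin 2) k) ^ 2) :
    maximalIdeal (MvPowerSeries (Fin 2) k) ≤
      Ideal.span (Set.range ![u, v]) ⊔ maximalIdeal (MvPowerSeries (Fin 2) k) ^ 2 := by
  rw [span_pair_range]
  refine le_of_eq_of_le (max_P_eq (k := k)) (Ideal.span_le.2 ?_)
  rintro z (rfl | rfl)
  exacts [hx, hy]

/-- The inclusion of `k[[x₁]]`. -/
def inY : PowerSeries k →ₐ[k] MvPowerSeries (Fin 2) k :=
  PowerSeries.substAlgHom (PowerSeries.HasSubst.of_constantCoeff_zero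
    (MvPowerSeries.constantCoeff_X (1 : Fin 2) : MvPowerSeries.constantCoeff
      (MvPowerSeries.X (1 : Fin 2) : MvPowerSeries (Fin 2) k) = 0))

theorem inY_X : inY (PowerSeries.X : PowerSeries k) = MvPowerSeries.X 1 := PowerSeries.substAlgHom_X _

/-- An `A_n` germ or a double line. -/
def IsAn (F : MvPowerSeries (Fin 2) k) : Prop :=
  (∃ n : ℕ, Nonempty ((MvPowerSeries (Fin 2) k ⧸ Ideal.span {F}) ≃ₐ[k] ArSing.ring k n)) ∨
    Nonempty ((MvPowerSeries (Fin 2) k ⧸ Ideal.span {F}) ≃ₐ[k]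
      (MvPowerSeries (Fin 2) k ⧸ Ideal.span ({MvPowerSeries.X 1 ^ 2} : Set (MvPowerSeries (Fin 2) k))))

theorem IsAn.of_equiv {F F' : MvPowerSeries (Fin 2) k}
    (e : (MvPowerSeries (Fin 2) k ⧸ Ideal.span {F}) ≃ₐ[k] (MvPowerSeries (Fin 2) k ⧸ Ideal.span {F'}))
    (h : IsAn F') : IsAn F := by
  refine Or.imp (fun ⟨n, hf⟩ => ⟨n, hf.elim fun f => ⟨e.trans f⟩⟩) (fun hf => hf.elim fun f => ⟨e.trans f⟩) h

theorem isAn_smooth {F : MvPowerSeries (Fin 2) k} (h0 : MvPowerSeries.constantCoeff F = 0)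
    (h1 : MvPowerSeries.coeff (Finsupp.single 0 1) F ≠ 0) : IsAn F := by
  set a := MvPowerSeries.coeff (Finsupp.single 0 1) F
  set b := MvPowerSeries.coeff (Finsupp.single 1 1) F
  have hgen : MvPowerSeries.X 0 ∈ Ideal.span {MvPowerSeries.X 1 ^ 2 - F, MvPowerSeries.X 1} ⊔
      maximalIdeal (MvPowerSeries (Fin 2) k) ^ 2 := by
    have hl := linear_part h0
    set I := Ideal.span {MvPowerSeries.X 1 ^ 2 - F, MvPowerSeries.X 1} ⊔ maximalIdeal (MvPowerSeries (Fin 2) k) ^ 2
    have hu : MvPowerSeries.X 1 ^ 2 - F ∈ I := Submodule.mem_sup_left (Ideal.subset_span (Set.mem_insert _ _))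
    have hv : MvPowerSeries.X 1 ∈ I := Submodule.mem_sup_left (Ideal.subset_span (Set.mem_insert_of_mem _ rfl))
    have key : MvPowerSeries.C a * MvPowerSeries.X 0 ∈ I := by
      have e : MvPowerSeries.C a * MvPowerSeries.X 0 = MvPowerSeries.X 1 * MvPowerSeries.X 1 -
          (MvPowerSeries.X 1 ^ 2 - F) - MvPowerSeries.C b * MvPowerSeries.X 1 -
          (F - (MvPowerSeries.C a * MvPowerSeries.X 0 + MvPowerSeries.C b * MvPowerSeries.X 1)) := by ring
      rw [e]
      exact sub_mem (sub_mem (sub_mem (Ideal.mul_mem_left _ _ hv) hu) (Ideal.mul_mem_left _ _ hv))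
        (Submodule.mem_sup_right hl)
    have h := Ideal.mul_mem_left I (MvPowerSeries.C a⁻¹) key
    rwa [← mul_assoc, ← map_mul, inv_mul_cancel₀ h1, map_one, one_mul] at h
  obtain ⟨ψ, hψ⟩ := exists_coord ![MvPowerSeries.X 1 ^ 2 - F, MvPowerSeries.X 1]
    (Fin.forall_fin_two.2 ⟨by simp [h0], MvPowerSeries.constantCoeff_X _⟩) (pair_le hgen
      (Submodule.mem_sup_left (Ideal.subset_span (Set.mem_insert_of_mem _ rfl))))
  refine Or.inl ⟨0, ⟨(AlgEquiv.symm (nonempty_quotEquiv ψ (G := ArSing.eqn k 0) (F := F) ?_).some)⟩⟩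
  rw [ArSing.eqn, map_sub, map_pow, map_pow, zero_add, pow_one, hψ, hψ]
  simp

theorem isAn_double [IsAlgClosed k] (h2 : (2 : k) ≠ 0) {F : MvPowerSeries (Fin 2) k}
    (hl : ∀ n < 2, PowerSeries.coeff n (line 1 0 F) = 0) (hc : PowerSeries.coeff 2 (line 1 0 F) ≠ 0) :
    IsAn F := by
  let R := MvPowerSeries (Fin 1) k
  let E : MvPowerSeries (Fin 2) k ≃ₐ[k] PowerSeries R := MvPowerSeries.finSuccEquiv k 1
  let cR : R →+* k := MvPowerSeries.constantCoeff
  have hres : ∀ a : R, IsLocalRing.residue R a = 0 ↔ cR a = 0 := fun a => by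
    rw [IsLocalRing.residue_eq_zero_iff]
    exact WildQuotLib.mem_maximalIdeal_iff_constantCoeff (k := k) (n := 1) a
  have hline : ∀ f n, cR (PowerSeries.coeff n (E f)) = PowerSeries.coeff n (line 1 0 f) := by
    let L : MvPowerSeries (Fin 2) k →ₐ[k] PowerSeries k :=
      { (PowerSeries.map cR).comp E.toAlgHom.toRingHom with
        commutes' := fun c => by
          show PowerSeries.map cR (E (MvPowerSeries.C c)) = PowerSeries.C c
          rw [show E (MvPowerSeries.C c) = PowerSeries.C (MvPowerSeries.C c) from MvPowerSeries.finSuccEquiv_C c,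
            PowerSeries.map_C]
          exact congrArg PowerSeries.C (MvPowerSeries.constantCoeff_C c) }
    have hL0 : L (MvPowerSeries.X 0) = PowerSeries.X := by
      show PowerSeries.map cR (E (MvPowerSeries.X 0)) = _
      rw [show E (MvPowerSeries.X 0) = PowerSeries.X from MvPowerSeries.finSuccEquiv_X_zero, PowerSeries.map_X]
    have hL1 : L (MvPowerSeries.X 1) = 0 := by
      show PowerSeries.map cR (E (MvPowerSeries.X (Fin.succ 0))) = _
      rw [show E (MvPowerSeries.X (Fin.succ 0)) = PowerSeries.C (MvPowerSeries.X 0) from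
          MvPowerSeries.finSuccEquiv_X_succ (0 : Fin 1), PowerSeries.map_C,
        show cR (MvPowerSeries.X 0) = 0 from MvPowerSeries.constantCoeff_X _, map_zero]
    have : L = line 1 0 := lineExt (Fin.forall_fin_two.2 ⟨by rw [hL0]; simp, by rw [hL1]; simp⟩)
      (Fin.forall_fin_two.2 ⟨by rw [hL0, line_X0]; simp, by rw [hL1, line_X1]; simp⟩)
    intro f n
    rw [← this]
    exact (PowerSeries.coeff_map cR n (E f)).symm
  haveI : IsAdicComplete (maximalIdeal R) R := WildQuotLib.isAdicComplete_maximalIdeal (k := k) 1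
  have hord : ((E F).map (IsLocalRing.residue R)).order = (2 : ℕ) := by
    refine PowerSeries.order_eq_nat.2 ⟨?_, fun i hi => ?_⟩
    · rw [PowerSeries.coeff_map, Ne, hres, hline]; exact hc
    · rw [PowerSeries.coeff_map, hres, hline]; exact hl i hi
  have hne : (E F).map (IsLocalRing.residue R) ≠ 0 := fun h => by
    rw [h, PowerSeries.order_zero] at hord; simp at hord
  obtain ⟨f, h, H⟩ := (E F).exists_isWeierstrassFactorization hne
  have hdeg : f.natDegree = 2 := by
    rw [H.natDegree_eq_toNat_order_map, hord]; rfl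
  let b := f.coeff 1
  let c := f.coeff 0
  have hf : f = Polynomial.X ^ 2 + Polynomial.C b * Polynomial.X + Polynomial.C c := by
    ext n
    rcases n with _ | _ | _ | n
    · simp [c]
    · simp [b]
    · have := H.isDistinguishedAt.monic.coeff_natDegree
      rw [hdeg] at this
      simp [this, Polynomial.coeff_C, Polynomial.coeff_X]
    · rw [Polynomial.coeff_eq_zero_of_natDegree_lt (by omega)]
      simp [Polynomial.coeff_X, Polynomial.coeff_C]
  have hb0 : cR b = 0 := (WildQuotLib.mem_maximalIdeal_iff_constantCoeff (k := k) (n := 1) b).1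
    (H.isDistinguishedAt.mem (by omega : 1 < f.natDegree))
  have hc0 : cR c = 0 := (WildQuotLib.mem_maximalIdeal_iff_constantCoeff (k := k) (n := 1) c).1
    (H.isDistinguishedAt.mem (by omega : 0 < f.natDegree))
  -- `k[[x₁]]`
  let e : R ≃ₐ[k] PowerSeries k := MvPowerSeries.renameEquiv k (Equiv.ofUnique (Fin 1) Unit)
  let B := e b
  let C' := e c
  have heC : ∀ a : R, PowerSeries.constantCoeff (e a) = cR a := fun a =>
    MvPowerSeries.constantCoeff_rename (f := Equiv.ofUnique (Fin 1) Unit) a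
  have hι : ∀ a : R, E.symm (PowerSeries.C a) = inY (e a) := by
    have h' : E.symm.toAlgHom.comp
        ({ (PowerSeries.C : R →+* PowerSeries R) with commutes' := fun c => (IsScalarTower.algebraMap_apply k R (PowerSeries R) c).symm } : R →ₐ[k] PowerSeries R) =
        inY.comp e.toAlgHom := by
      refine ArtFunLib.ps_ext (maximalIdeal (MvPowerSeries (Fin 2) k)) (fun i => ?_) (fun i => ?_) <;>
        obtain rfl : i = 0 := Subsingleton.elim _ _
      · show E.symm (PowerSeries.C (MvPowerSeries.X 0)) ∈ _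
        rw [show E.symm (PowerSeries.C (MvPowerSeries.X 0)) = MvPowerSeries.X 1 from
          (AlgEquiv.symm_apply_eq E).2 (MvPowerSeries.finSuccEquiv_X_succ (R := k) (0 : Fin 1)).symm]
        exact mem_max_iff_P.2 (MvPowerSeries.constantCoeff_X _)
      · show E.symm (PowerSeries.C (MvPowerSeries.X 0)) = inY (e (MvPowerSeries.X 0))
        rw [show E.symm (PowerSeries.C (MvPowerSeries.X 0)) = MvPowerSeries.X 1 from
          (AlgEquiv.symm_apply_eq E).2 (MvPowerSeries.finSuccEquiv_X_succ (R := k) (0 : Fin 1)).symm,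
          show e (MvPowerSeries.X 0) = (PowerSeries.X : PowerSeries k) from MvPowerSeries.rename_X (Equiv.ofUnique (Fin 1) Unit) 0, inY_X]
    exact fun a => DFunLike.congr_fun h' a
  have hX0 : E.symm PowerSeries.X = MvPowerSeries.X 0 :=
    (AlgEquiv.symm_apply_eq E).2 MvPowerSeries.finSuccEquiv_X_zero.symm
  let G := MvPowerSeries.X 0 ^ 2 + inY B * MvPowerSeries.X 0 + inY C'
  have hG : Associated G F := by
    refine ⟨(H.isUnit.map E.symm).unit, ?_⟩
    rw [IsUnit.unit_spec]
    conv_rhs => rw [← E.symm_apply_apply F, H.eq_mul, hf]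
    simp [G, B, C', hι, hX0]
  let half : PowerSeries k := PowerSeries.C 2⁻¹
  have hh : 2 * half = 1 := by
    rw [← map_ofNat (PowerSeries.C (R := k)) 2, ← map_mul, mul_inv_cancel₀ h2, map_one]
  let D := (half * B) ^ 2 - C'
  have hD0 : PowerSeries.constantCoeff D = 0 := by simp [D, B, C', heC, hb0, hc0]
  have hG' : G = (MvPowerSeries.X 0 + inY (half * B)) ^ 2 - inY D := by
    have h1 : inY B = inY (half * B) + inY (half * B) := by
      rw [← map_add]; congr 1; linear_combination -B * hh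
    simp only [G, D, map_sub, map_pow]
    rw [h1]; ring
  obtain ⟨B', hB'⟩ : PowerSeries.X ∣ half * B :=
    PowerSeries.X_dvd_iff.2 (by simp [B, heC, hb0])
  have hcoord : ∀ s : PowerSeries k, PowerSeries.constantCoeff s ≠ 0 →
      ∃ ψ : MvPowerSeries (Fin 2) k ≃ₐ[k] MvPowerSeries (Fin 2) k, ψ (MvPowerSeries.X 0) = MvPowerSeries.X 1 ∧
        ψ (MvPowerSeries.X 1) = (MvPowerSeries.X 0 + inY (half * B)) * inY s := by
    intro s hs
    have hgen : MvPowerSeries.X 0 ∈ Ideal.span {MvPowerSeries.X 1, (MvPowerSeries.X 0 + inY (half * B)) * inY s} ⊔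
        maximalIdeal (MvPowerSeries (Fin 2) k) ^ 2 := by
      refine Submodule.mem_sup_left (Ideal.mem_span_pair.2 ⟨-inY B', inY s⁻¹, ?_⟩)
      have h1 : inY s * inY s⁻¹ = 1 := by rw [← map_mul, PowerSeries.mul_inv_cancel s hs, map_one]
      rw [hB', map_mul, inY_X]
      linear_combination (MvPowerSeries.X 0 + MvPowerSeries.X 1 * inY B') * h1
    obtain ⟨ψ, hψ⟩ := exists_coord ![MvPowerSeries.X 1, (MvPowerSeries.X 0 + inY (half * B)) * inY s]
      (Fin.forall_fin_two.2 ⟨MvPowerSeries.constantCoeff_X _, by simp [hB', inY_X]⟩) (pair_le hgen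
        (Submodule.mem_sup_left (Ideal.subset_span (Set.mem_insert _ _))))
    exact ⟨ψ, hψ 0, hψ 1⟩
  by_cases hD : D = 0
  · obtain ⟨ψ, -, hψ1⟩ := hcoord 1 (by simp)
    refine Or.inr ⟨(nonempty_quotEquiv ψ (G := MvPowerSeries.X 1 ^ 2) (F := F) ?_).some.symm⟩
    rw [map_pow, hψ1, map_one, mul_one]
    exact (Associated.refl _).trans ((by rw [hG', hD, map_zero, sub_zero] :
      (MvPowerSeries.X 0 + inY (half * B)) ^ 2 = G) ▸ hG)
  · have hU : PowerSeries.constantCoeff (PowerSeries.divXPowOrder D) ≠ 0 := by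
      rw [PowerSeries.constantCoeff_divXPowOrder]; exact PowerSeries.coeff_order hD
    set U := PowerSeries.divXPowOrder D with hUdef
    have hN : D.order.toNat ≠ 0 := fun h => by
      have := (PowerSeries.X_pow_order_mul_divXPowOrder (f := D)).symm
      rw [h, pow_zero, one_mul] at this
      exact hU (by rw [← hUdef] at this; rw [← this, hD0])
    obtain ⟨n, hn⟩ := Nat.exists_eq_succ_of_ne_zero hN
    obtain ⟨s, hs, hs0⟩ := exists_sqrt h2 U hU
    obtain ⟨ψ, hψ0, hψ1⟩ := hcoord s⁻¹ (by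
      rw [PowerSeries.constantCoeff_inv]; exact inv_ne_zero hs0)
    refine Or.inl ⟨n, ⟨(nonempty_quotEquiv ψ (G := ArSing.eqn k n) (F := F) ?_).some.symm⟩⟩
    rw [ArSing.eqn, map_sub, map_pow, map_pow, hψ0, hψ1]
    refine Associated.trans ⟨(((PowerSeries.isUnit_iff_constantCoeff.2 (isUnit_iff_ne_zero.2 hU))).map inY).unit, ?_⟩ hG
    rw [IsUnit.unit_spec]
    have hD' : D = PowerSeries.X ^ (n + 1) * U := by
      rw [show n + 1 = D.order.toNat from hn.symm]; exact PowerSeries.X_pow_order_mul_divXPowOrder.symm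
    have h1 : inY s * inY s⁻¹ = 1 := by rw [← map_mul, PowerSeries.mul_inv_cancel s hs0, map_one]
    rw [hG', hD', map_mul inY (PowerSeries.X ^ (n + 1)) U, map_pow, inY_X, ← hs, map_pow]
    linear_combination (MvPowerSeries.X 0 + inY (half * B)) ^ 2 * (inY s * inY s⁻¹ + 1) * h1

theorem isAn_of_line [IsAlgClosed k] (h2 : (2 : k) ≠ 0) {F : MvPowerSeries (Fin 2) k}
    (h0 : MvPowerSeries.constantCoeff F = 0) {α β : k}
    (h : PowerSeries.coeff 1 (line α β F) ≠ 0 ∨ PowerSeries.coeff 2 (line α β F) ≠ 0) : IsAn F := by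
  by_cases hs : MvPowerSeries.coeff (Finsupp.single 0 1) F ≠ 0
  · exact isAn_smooth h0 hs
  obtain ⟨u, hu0, hl0, hl1, hx, hy⟩ : ∃ u : Fin 2 → MvPowerSeries (Fin 2) k,
      (∀ i, MvPowerSeries.constantCoeff (u i) = 0) ∧
      line 1 0 (u 0) = PowerSeries.C α * PowerSeries.X ∧ line 1 0 (u 1) = PowerSeries.C β * PowerSeries.X ∧
      MvPowerSeries.X 0 ∈ Ideal.span {u 0, u 1} ⊔ maximalIdeal (MvPowerSeries (Fin 2) k) ^ 2 ∧
      MvPowerSeries.X 1 ∈ Ideal.span {u 0, u 1} ⊔ maximalIdeal (MvPowerSeries (Fin 2) k) ^ 2 := by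
    by_cases hα : α = 0
    · by_cases hβ : β = 0
      · exfalso
        have hz : line α β F = 0 := by
          obtain ⟨A, B, hAB⟩ := Ideal.mem_span_pair.1 (max_P_eq (k := k) ▸ mem_max_iff_P.2 h0)
          rw [← hAB, map_add, map_mul, map_mul, line_X0, line_X1, hα, hβ]; simp
        rw [hz] at h; simp at h
      · refine ⟨![MvPowerSeries.X 1, MvPowerSeries.C β * MvPowerSeries.X 0],
          Fin.forall_fin_two.2 ⟨by simp, by simp⟩, by simp [line_X1, hα], ?_, ?_,
          Submodule.mem_sup_left (Ideal.subset_span (by simp))⟩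
        · show line 1 0 (MvPowerSeries.C β * MvPowerSeries.X 0) = _
          rw [map_mul, line_X0, show line (1 : k) 0 (MvPowerSeries.C β) = PowerSeries.C β from
            (line (1 : k) 0).commutes β]
          simp
        · refine Submodule.mem_sup_left (Ideal.mem_span_pair.2 ⟨0, MvPowerSeries.C β⁻¹, ?_⟩)
          simp [← mul_assoc, ← map_mul, inv_mul_cancel₀ hβ]
    · have hc : ∀ c, line (1 : k) 0 (MvPowerSeries.C c) = PowerSeries.C c := fun c => (line (1 : k) 0).commutes c
      refine ⟨![MvPowerSeries.C α * MvPowerSeries.X 0, MvPowerSeries.C β * MvPowerSeries.X 0 + MvPowerSeries.X 1],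
        Fin.forall_fin_two.2 ⟨by simp, by simp⟩, by simp [line_X0, hc], by simp [line_X0, line_X1, hc], ?_, ?_⟩
      · refine Submodule.mem_sup_left (Ideal.mem_span_pair.2 ⟨MvPowerSeries.C α⁻¹, 0, ?_⟩)
        simp [← mul_assoc, ← map_mul, inv_mul_cancel₀ hα]
      · refine Submodule.mem_sup_left (Ideal.mem_span_pair.2 ⟨-(MvPowerSeries.C (β * α⁻¹)), 1, ?_⟩)
        have e : MvPowerSeries.C (β * α⁻¹) * (MvPowerSeries.C α * MvPowerSeries.X 0) =
            MvPowerSeries.C β * (MvPowerSeries.X (0 : Fin 2) : MvPowerSeries (Fin 2) k) := by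
          rw [← mul_assoc, ← map_mul, mul_assoc β, inv_mul_cancel₀ hα, mul_one]
        show -MvPowerSeries.C (β * α⁻¹) * (MvPowerSeries.C α * MvPowerSeries.X 0) +
          1 * (MvPowerSeries.C β * MvPowerSeries.X 0 + MvPowerSeries.X 1) = _
        linear_combination -e
  obtain ⟨ψ, hψ⟩ := exists_coord u hu0 (by
    refine (pair_le hx hy).trans_eq ?_
    congr 2
    exact congrArg Set.range (funext fun i => by fin_cases i <;> rfl))
  have hcomp : ∀ f, line 1 0 (ψ f) = line α β f := DFunLike.congr_fun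
    (line_comp ψ.toAlgHom 1 0 α β (by simpa [hψ] using hl0) (by simpa [hψ] using hl1))
  have hψ0 : MvPowerSeries.constantCoeff (ψ F) = 0 := by
    refine mem_max_iff_P.1 fun hu => (mem_max_iff_P.2 h0) ?_
    simpa using hu.map ψ.symm
  have hquot := nonempty_quotEquiv ψ (Associated.refl (ψ F))
  refine IsAn.of_equiv hquot.some ?_
  by_cases hs' : MvPowerSeries.coeff (Finsupp.single 0 1) (ψ F) ≠ 0
  · exact isAn_smooth hψ0 hs'
  have hl : ∀ n < 2, PowerSeries.coeff n (line 1 0 (ψ F)) = 0 := by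
    obtain ⟨A, B, hAB⟩ := Ideal.mem_span_pair.1 (max_P_eq (k := k) ▸ mem_max_iff_P.2 hψ0)
    intro n hn
    have hA : PowerSeries.constantCoeff (line 1 0 A) = 0 := by
      have hA0 : MvPowerSeries.constantCoeff A = 0 := by
        rw [not_not] at hs'
        rwa [← hAB, mul_comm A, mul_comm B, map_add, coeff_single_X_mul, coeff_single_X_mul, if_pos rfl,
          if_neg (by decide), add_zero] at hs'
      obtain ⟨A₁, A₂, rfl⟩ := Ideal.mem_span_pair.1 (max_P_eq (k := k) ▸ mem_max_iff_P.2 hA0)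
      simp [line_X0, line_X1]
    rw [← hAB, map_add, map_mul, map_mul, line_X0, line_X1, map_zero, zero_mul, mul_zero, add_zero, map_one, one_mul]
    interval_cases n
    · simp
    · rw [PowerSeries.coeff_succ_mul_X, PowerSeries.coeff_zero_eq_constantCoeff_apply, hA]
  refine isAn_double h2 hl ?_
  rcases h with h | h
  · exact absurd (by rw [← hcomp]; exact hl 1 one_lt_two) h
  · rwa [hcomp]

end Groth.Agent.ArSingLib
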