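import Mathlib
import Groth.Agent.ArSingLib.NormalForm

/-!
# Multiplicity three is not an `A_n`
-/

set_option autoImplicit false
set_option linter.style.haveILetI false

universe u

noncomputable section

namespace Groth.Agent.ArSingLib

open IsLocalRing

variable {k : Type u} [Field k]

theorem mem_cube_of_equiv {F G : MvPowerSeries (Fin 2) k}
    (hF : F ∈ maximalIdeal (MvPowerSeries (Fin 2) k) ^ 3) (hG0 : G ∈ maximalIdeal (MvPowerSeries (Fin 2) k))
    (e : (MvPowerSeries (Fin 2) k ⧸ Ideal.span {F}) ≃ₐ[k] (MvPowerSeries (Fin 2) k ⧸ Ideal.span {G})) :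
    G ∈ maximalIdeal (MvPowerSeries (Fin 2) k) ^ 3 := by
  let P := MvPowerSeries (Fin 2) k
  let J : Ideal P := maximalIdeal P ^ 3
  have hJ : Ideal.span {F} ≤ J := (Ideal.span_singleton_le_iff_mem _).2 hF
  haveI : Nontrivial (P ⧸ J) :=
    Ideal.Quotient.nontrivial_iff.2 fun h => (maximalIdeal.isMaximal P).ne_top
      (top_le_iff.1 (h ▸ Ideal.pow_le_self (by norm_num)))
  haveI : IsLocalRing (P ⧸ J) := IsLocalRing.of_surjective' (Ideal.Quotient.mk J) Ideal.Quotient.mk_surjective
  let σ : P →+* P ⧸ J :=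
    ((Ideal.Quotient.factor hJ).comp (e.symm : (P ⧸ Ideal.span {G}) →+* P ⧸ Ideal.span {F})).comp
      (Ideal.Quotient.mk (Ideal.span {G}))
  have hσ : Function.Surjective σ :=
    ((Ideal.Quotient.factor_surjective hJ).comp e.symm.surjective).comp Ideal.Quotient.mk_surjective
  haveI : IsLocalHom σ := hσ.isLocalHom σ
  have hm : (maximalIdeal P).map σ ≤ (maximalIdeal P).map (Ideal.Quotient.mk J) := by
    rw [Ideal.map_le_iff_le_comap]
    intro z hz
    rw [Ideal.mem_comap, Ideal.map_eq_submodule_map]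
    obtain ⟨w, hw⟩ := Ideal.Quotient.mk_surjective (I := J) (σ z)
    refine ⟨w, ?_, hw⟩
    show w ∈ maximalIdeal P
    intro hu
    have hu' : IsUnit (σ z) := hw ▸ hu.map _
    exact hz (isUnit_of_map_unit σ z hu')
  have hJσ : ∀ z ∈ J, σ z = 0 := fun z hz => by
    have h : σ z ∈ ((maximalIdeal P).map (Ideal.Quotient.mk J)) ^ 3 :=
      Ideal.pow_right_mono hm 3 (by rw [← Ideal.map_pow]; exact Ideal.mem_map_of_mem σ hz)
    rwa [← Ideal.map_pow, Ideal.map_quotient_self, Ideal.mem_bot] at h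
  let τ := Ideal.Quotient.lift J σ hJσ
  have hτ : Function.Surjective τ := Ideal.Quotient.lift_surjective_of_surjective J hJσ hσ
  have hinj := PowerSeriesInvLib.injective_of_surjective_endo τ hτ
  have hG : τ (Ideal.Quotient.mk J G) = 0 := by
    show σ G = 0
    simp [σ, Ideal.Quotient.eq_zero_iff_mem.2 (Ideal.mem_span_singleton_self G)]
  exact Ideal.Quotient.eq_zero_iff_mem.1 (hinj (hG.trans (map_zero τ).symm))

theorem constantCoeff_line (α β : k) {F : MvPowerSeries (Fin 2) k} (h : MvPowerSeries.constantCoeff F = 0) :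
    PowerSeries.constantCoeff (line α β F) = 0 := by
  obtain ⟨A, B, rfl⟩ := Ideal.mem_span_pair.1 (max_P_eq (k := k) ▸ mem_max_iff_P.2 h)
  simp [line_X0, line_X1]

theorem X_pow_dvd_line (α β : k) {F : MvPowerSeries (Fin 2) k} {n : ℕ}
    (h : F ∈ maximalIdeal (MvPowerSeries (Fin 2) k) ^ n) : PowerSeries.X ^ n ∣ line α β F := by
  rw [← Ideal.mem_span_singleton, ← Ideal.span_singleton_pow]
  refine Ideal.pow_right_mono (?_ : (maximalIdeal (MvPowerSeries (Fin 2) k)).map (line α β) ≤ _) n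
    (by rw [← Ideal.map_pow]; exact Ideal.mem_map_of_mem (line α β) h)
  rw [Ideal.map_le_iff_le_comap]
  intro z hz
  exact Ideal.mem_span_singleton.2 (PowerSeries.X_dvd_iff.2 (constantCoeff_line α β (mem_max_iff_P.1 hz)))

theorem eqn_not_mem_cube (n : ℕ) : ArSing.eqn k n ∉ maximalIdeal (MvPowerSeries (Fin 2) k) ^ 3 := fun h => by
  have := PowerSeries.X_pow_dvd_iff.1 (X_pow_dvd_line 0 1 h) 2 (by norm_num)
  simp [ArSing.eqn, line_X0, line_X1, zero_pow, PowerSeries.coeff_X_pow] at this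

theorem ysq_not_mem_cube : (MvPowerSeries.X 1 : MvPowerSeries (Fin 2) k) ^ 2 ∉ maximalIdeal (MvPowerSeries (Fin 2) k) ^ 3 :=
  fun h => by
  have := PowerSeries.X_pow_dvd_iff.1 (X_pow_dvd_line 0 1 h) 2 (by norm_num)
  simp [line_X1, PowerSeries.coeff_X_pow] at this

theorem eval_pderiv_comm (g : MvPolynomial (Fin 2) k) (i j : Fin 2) :
    MvPolynomial.eval 0 (MvPolynomial.pderiv i (MvPolynomial.pderiv j g)) =
      MvPolynomial.eval 0 (MvPolynomial.pderiv j (MvPolynomial.pderiv i g)) := by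
  classical
  rcases eq_or_ne i j with rfl | hne
  · rfl
  rw [← coeff_single_eq_eval, ← coeff_single_eq_eval, MvPolynomial.coeff_pderiv, MvPolynomial.coeff_pderiv,
    add_comm (Finsupp.single i 1)]
  simp [Finsupp.single_eq_of_ne hne, Finsupp.single_eq_of_ne hne.symm]

theorem hessian_iff [IsAlgClosed k] (h2 : (2 : k) ≠ 0) (f : MvPolynomial (Fin 2) k) (a : Fin 2 → k)
    (hfa : MvPolynomial.eval a f = 0) :
    ((∀ i : Fin 2, MvPolynomial.eval a (MvPolynomial.pderiv i f) = 0) ∧
      ∀ i j : Fin 2, MvPolynomial.eval a (MvPolynomial.pderiv i (MvPolynomial.pderiv j f)) = 0) ↔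
    ¬ IsAn (shift a f).toMvPowerSeries := by
  have e1 : ∀ i, MvPolynomial.eval a (MvPolynomial.pderiv i f) =
      MvPolynomial.eval 0 (MvPolynomial.pderiv i (shift a f)) := fun i => by rw [pderiv_shift, eval_shift]
  have e2 : ∀ i j, MvPolynomial.eval a (MvPolynomial.pderiv i (MvPolynomial.pderiv j f)) =
      MvPolynomial.eval 0 (MvPolynomial.pderiv i (MvPolynomial.pderiv j (shift a f))) := fun i j => by
    rw [pderiv_shift, pderiv_shift, eval_shift]
  simp only [e1, e2]
  set g := shift a f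
  have h0 : MvPolynomial.eval 0 g = 0 := by rw [eval_shift, hfa]
  constructor
  · rintro ⟨hg, hh⟩
    have hcube := mem_max_cube h2 h0 hg hh
    rintro (⟨n, he⟩ | he) <;> obtain ⟨e⟩ := he
    · exact eqn_not_mem_cube n (mem_cube_of_equiv hcube (mem_max_iff_P.2 (constantCoeff_eqn n)) e)
    · exact ysq_not_mem_cube (mem_cube_of_equiv hcube (mem_max_iff_P.2 (by simp)) e)
  · intro hno
    have hc : ∀ α β : k, (linePoly α β g).coeff 1 = 0 ∧ (linePoly α β g).coeff 2 = 0 := by
      intro α β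
      by_contra h
      refine hno (isAn_of_line h2 (F := g.toMvPowerSeries) (α := α) (β := β) ?_ ?_)
      · rw [← MvPowerSeries.coeff_zero_eq_constantCoeff_apply, MvPolynomial.coeff_coe,
          ← MvPolynomial.constantCoeff_eq, ← MvPolynomial.eval_zero, h0]
      · rw [line_coe, Polynomial.coeff_coe, Polynomial.coeff_coe]
        tauto
    have g0 : MvPolynomial.eval 0 (MvPolynomial.pderiv 0 g) = 0 := by
      have h := (hc 1 0).1; rw [coeff_one_linePoly] at h; simpa using h
    have g1 : MvPolynomial.eval 0 (MvPolynomial.pderiv 1 g) = 0 := by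
      have h := (hc 0 1).1; rw [coeff_one_linePoly] at h; simpa using h
    have t : ∀ α β : k,
        α * (α * MvPolynomial.eval 0 (MvPolynomial.pderiv 0 (MvPolynomial.pderiv 0 g)) +
          β * MvPolynomial.eval 0 (MvPolynomial.pderiv 1 (MvPolynomial.pderiv 0 g))) +
        β * (α * MvPolynomial.eval 0 (MvPolynomial.pderiv 0 (MvPolynomial.pderiv 1 g)) +
          β * MvPolynomial.eval 0 (MvPolynomial.pderiv 1 (MvPolynomial.pderiv 1 g))) = 0 := fun α β => by
      have h := coeff_two_linePoly α β g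
      rw [(hc α β).2, mul_zero] at h
      exact h.symm
    have a00 := t 1 0
    have a11 := t 0 1
    have a01 := t 1 1
    simp only [one_mul, zero_mul, add_zero, zero_add] at a00 a11 a01
    have hs := eval_pderiv_comm g 0 1
    have h01 : MvPolynomial.eval 0 (MvPolynomial.pderiv 0 (MvPolynomial.pderiv 1 g)) = 0 := by
      have h' : (2 : k) * MvPolynomial.eval 0 (MvPolynomial.pderiv 0 (MvPolynomial.pderiv 1 g)) = 0 := by
        linear_combination a01 - a00 - a11 + hs
      exact (mul_eq_zero.1 h').resolve_left h2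
    exact ⟨Fin.forall_fin_two.2 ⟨g0, g1⟩,
      Fin.forall_fin_two.2 ⟨Fin.forall_fin_two.2 ⟨a00, h01⟩, Fin.forall_fin_two.2 ⟨hs ▸ h01, a11⟩⟩⟩

end Groth.Agent.ArSingLib
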