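import Mathlib
import Groth.Agent.ArSingLib.Triple

/-!
# Germs isomorphic to a double line
-/

set_option autoImplicit false
set_option linter.style.haveILetI false

universe u

noncomputable section

namespace Groth.Agent.ArSingLib

open IsLocalRing

variable {k : Type u} [Field k]

/-- An irreducible polynomial over a perfect field has a non-zero partial derivative. -/
theorem exists_pderiv_ne_zero [IsAlgClosed k] {p : MvPolynomial (Fin 2) k} (hp : Irreducible p) :
    ∃ i, MvPolynomial.pderiv i p ≠ 0 := by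
  classical
  by_contra h
  push Not at h
  have hz : ∀ e ∈ p.support, ∀ i, ((e i : ℕ) : k) = 0 := by
    intro e he i
    rcases Nat.eq_zero_or_pos (e i) with h0 | h0
    · simp [h0]
    · have hc := congrArg (MvPolynomial.coeff (e - Finsupp.single i 1)) (h i)
      have hle : Finsupp.single i 1 ≤ e := Finsupp.single_le_iff.2 h0
      rw [MvPolynomial.coeff_pderiv, tsub_add_cancel_of_le hle, MvPolynomial.coeff_zero, Finsupp.tsub_apply,
        Finsupp.single_eq_same, Nat.cast_sub h0, Nat.cast_one, sub_add_cancel] at hc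
      exact (mul_eq_zero.1 hc).resolve_left (MvPolynomial.mem_support_iff.1 he)
  obtain ⟨q, hq⟩ := CharP.exists k
  rcases CharP.char_is_prime_or_zero k q with hq' | rfl
  · haveI := Fact.mk hq'
    choose r hr using fun c : k => IsAlgClosed.exists_pow_nat_eq c hq'.pos
    let g : MvPolynomial (Fin 2) k := ∑ e ∈ p.support,
      MvPolynomial.monomial (e.mapRange (· / q) (Nat.zero_div q)) (r (p.coeff e))
    have hg : g ^ q = p := by
      rw [show g ^ q = ∑ e ∈ p.support, (MvPolynomial.monomial (e.mapRange (· / q) (Nat.zero_div q))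
        (r (p.coeff e))) ^ q from sum_pow_char q _ _]
      conv_rhs => rw [← MvPolynomial.support_sum_monomial_coeff p]
      refine Finset.sum_congr rfl fun e he => ?_
      rw [MvPolynomial.monomial_pow, hr]
      refine congrArg (fun d => MvPolynomial.monomial d (p.coeff e)) (Finsupp.ext fun i => ?_)
      show q * (e i / q) = e i
      exact Nat.mul_div_cancel' ((CharP.cast_eq_zero_iff k q _).1 (hz e he i))
    exact not_irreducible_pow hq'.one_lt.ne' (hg ▸ hp)
  · haveI := CharP.charP_to_charZero k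
    have hpc : p = MvPolynomial.C (p.coeff 0) := by
      ext e
      rw [MvPolynomial.coeff_C]
      split_ifs with he
      · rw [← he]
      · by_contra hne
        refine he (Finsupp.ext fun i => ?_)
        have := hz e (MvPolynomial.mem_support_iff.2 hne) i
        simpa [eq_comm] using (Nat.cast_eq_zero.1 this)
    refine hp.not_isUnit ?_
    rw [hpc]
    refine (isUnit_iff_ne_zero.2 fun h0 => hp.ne_zero ?_).map MvPolynomial.C
    rw [hpc, h0, map_zero]

theorem totalDegree_pderiv_lt {p : MvPolynomial (Fin 2) k} (i : Fin 2) (h : MvPolynomial.pderiv i p ≠ 0) :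
    (MvPolynomial.pderiv i p).totalDegree < p.totalDegree := by
  classical
  obtain ⟨e, he, hed⟩ := Finset.exists_mem_eq_sup _ (MvPolynomial.support_nonempty.2 h)
    (fun s : Fin 2 →₀ ℕ => s.sum fun _ n => n)
  have he' : e + Finsupp.single i 1 ∈ p.support := by
    rw [MvPolynomial.mem_support_iff] at he ⊢
    intro h0
    exact he (by rw [MvPolynomial.coeff_pderiv, h0, zero_mul])
  have hle := MvPolynomial.le_totalDegree he'
  rw [Finsupp.sum_add_index' (fun _ => rfl) (fun _ _ _ => rfl), Finsupp.sum_single_index rfl] at hle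
  calc (MvPolynomial.pderiv i p).totalDegree = e.sum fun _ n => n := hed
    _ < p.totalDegree := by omega

theorem X1_prime : Prime (MvPowerSeries.X 1 : MvPowerSeries (Fin 2) k) := by
  let E := MvPowerSeries.finSuccEquiv k 1
  obtain ⟨ψ, hψ⟩ := exists_coord (k := k) ![MvPowerSeries.X 1, MvPowerSeries.X 0]
    (Fin.forall_fin_two.2 ⟨MvPowerSeries.constantCoeff_X _, MvPowerSeries.constantCoeff_X _⟩)
    (pair_le (Submodule.mem_sup_left (Ideal.subset_span (Set.mem_insert_of_mem _ rfl)))
      (Submodule.mem_sup_left (Ideal.subset_span (Set.mem_insert _ _))))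
  have h0 : Prime (MvPowerSeries.X 0 : MvPowerSeries (Fin 2) k) := by
    rw [← MulEquiv.prime_iff E.toMulEquiv]
    show Prime (E (MvPowerSeries.X 0))
    rw [show E (MvPowerSeries.X 0) = PowerSeries.X from MvPowerSeries.finSuccEquiv_X_zero]
    haveI : IsDomain (MvPowerSeries (Fin 1) k) := NoZeroDivisors.to_isDomain _
    exact PowerSeries.X_prime
  have h1 := (MulEquiv.prime_iff ψ.toMulEquiv).2 h0
  change Prime (ψ (MvPowerSeries.X 0)) at h1
  rwa [hψ] at h1

theorem X1_not_dvd_X0 : ¬ (MvPowerSeries.X 1 : MvPowerSeries (Fin 2) k) ∣ MvPowerSeries.X 0 := by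
  rintro ⟨c, hc⟩
  have := congrArg (PowerSeries.coeff 1) (congrArg (line (1 : k) 0) hc)
  simp [line_X0, line_X1] at this

theorem coe_pderiv (i : Fin 2) (f : MvPolynomial (Fin 2) k) :
    MvPowerSeries.pderiv k i (f.toMvPowerSeries) = (MvPolynomial.pderiv i f).toMvPowerSeries :=
  MvPowerSeries.pderiv_coe f

/-- The germ of a polynomial at `a`. -/
def germAt (a : Fin 2 → k) : MvPolynomial (Fin 2) k →ₐ[k] MvPowerSeries (Fin 2) k :=
  (MvPolynomial.coeToMvPowerSeries.algHom k).comp (shift a)

theorem germAt_apply (a : Fin 2 → k) (f : MvPolynomial (Fin 2) k) :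
    germAt a f = (shift a f).toMvPowerSeries := by
  simp [germAt]

theorem constantCoeff_germAt (a : Fin 2 → k) (f : MvPolynomial (Fin 2) k) :
    MvPowerSeries.constantCoeff (germAt a f) = MvPolynomial.eval a f := by
  rw [germAt_apply, ← MvPowerSeries.coeff_zero_eq_constantCoeff_apply, MvPolynomial.coeff_coe,
    ← MvPolynomial.constantCoeff_eq, ← MvPolynomial.eval_zero, eval_shift]

theorem isUnit_germAt_iff (a : Fin 2 → k) (f : MvPolynomial (Fin 2) k) :
    IsUnit (germAt a f) ↔ MvPolynomial.eval a f ≠ 0 := by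
  rw [MvPowerSeries.isUnit_iff_constantCoeff, isUnit_iff_ne_zero, constantCoeff_germAt]

theorem dvd_of_branch [IsAlgClosed k] (a : Fin 2 → k) {w : MvPowerSeries (Fin 2) k} (hw : Prime w)
    {p q : MvPolynomial (Fin 2) k} (hp : Irreducible p) (hpw : w ∣ germAt a p) (hqw : w ∣ germAt a q) :
    p ∣ q := by
  by_contra hpq
  let 𝔭 : Ideal (MvPolynomial (Fin 2) k) := (Ideal.span {w}).comap (germAt a)
  haveI h𝔭 : 𝔭.IsPrime :=
    Ideal.IsPrime.comap (f := germAt a) (hK := (Ideal.span_singleton_prime hw.ne_zero).2 hw)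
  have mem : ∀ f, f ∈ 𝔭 ↔ w ∣ germAt a f := fun f => Ideal.mem_span_singleton
  haveI hpp : (Ideal.span {p}).IsPrime := (Ideal.span_singleton_prime hp.ne_zero).2 hp.prime
  have hlt : Ideal.span {p} < 𝔭 := by
    refine lt_of_le_of_ne ((Ideal.span_singleton_le_iff_mem _).2 ((mem p).2 hpw)) fun h => hpq ?_
    exact Ideal.mem_span_singleton.1 (h ▸ (mem q).2 hqw)
  let M : Ideal (MvPolynomial (Fin 2) k) := RingHom.ker (MvPolynomial.eval a)
  haveI hM : M.IsMaximal := RingHom.ker_isMaximal_of_surjective _ fun c => ⟨MvPolynomial.C c, MvPolynomial.eval_C c⟩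
  have hle : 𝔭 ≤ M := fun f hf => by
    by_contra hne
    exact hw.not_unit (isUnit_of_dvd_unit ((mem f).1 hf) ((isUnit_germAt_iff a f).2 hne))
  rcases hle.lt_or_eq with hlt' | heq
  · let s : LTSeries (PrimeSpectrum (MvPolynomial (Fin 2) k)) :=
      { length := 3
        toFun := ![⟨⊥, Ideal.isPrime_bot⟩, ⟨Ideal.span {p}, hpp⟩, ⟨𝔭, h𝔭⟩, ⟨M, hM.isPrime⟩]
        step := by
          intro i
          fin_cases i
          · exact bot_lt_iff_ne_bot.2 (fun h => hp.ne_zero (Ideal.span_singleton_eq_bot.1 h))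
          · exact hlt
          · exact hlt' }
    have h3 : ((3 : ℕ) : WithBot ℕ∞) ≤ ringKrullDim (MvPolynomial (Fin 2) k) := Order.LTSeries.length_le_krullDim s
    rw [MvPolynomial.ringKrullDim_of_isNoetherianRing, ringKrullDim_eq_zero_of_field, zero_add, Nat.card_fin] at h3
    exact absurd (Nat.cast_le.1 h3 : (3 : ℕ) ≤ 2) (by omega)
  · have hX : ∀ i, w ∣ MvPowerSeries.X i := fun i => by
      have h := (mem (MvPolynomial.X i - MvPolynomial.C (a i))).1 (heq ▸ (by simp [M, RingHom.mem_ker]))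
      simpa [germAt_apply, shift] using h
    obtain ⟨c, hc⟩ := hX 1
    rcases (X1_prime (k := k)).irreducible.isUnit_or_isUnit hc with h | h
    · exact hw.not_unit h
    · exact X1_not_dvd_X0 ((Associated.dvd_iff_dvd_left ⟨h.unit, hc.symm⟩).1 (hX 0))

theorem doubleLine_iff [IsAlgClosed k] (f : MvPolynomial (Fin 2) k) (a : Fin 2 → k) :
    Nonempty ((MvPowerSeries (Fin 2) k ⧸ Ideal.span {(shift a f).toMvPowerSeries}) ≃ₐ[k]
      (MvPowerSeries (Fin 2) k ⧸ Ideal.span ({MvPowerSeries.X 1 ^ 2} : Set (MvPowerSeries (Fin 2) k)))) ↔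
    ∃ g h : MvPolynomial (Fin 2) k, f = g ^ 2 * h ∧ MvPolynomial.eval a h ≠ 0 ∧ MvPolynomial.eval a g = 0 ∧
      ∃ i : Fin 2, MvPolynomial.eval a (MvPolynomial.pderiv i g) ≠ 0 := by
  classical
  rw [← germAt_apply]
  set F := germAt a f with hF
  constructor
  · rintro ⟨e⟩
    let P := MvPowerSeries (Fin 2) k
    let S := P ⧸ Ideal.span ({MvPowerSeries.X 1 ^ 2} : Set P)
    haveI : Nontrivial S := Ideal.Quotient.nontrivial_iff.2 fun h => by
      rw [Ideal.span_singleton_eq_top, MvPowerSeries.isUnit_iff_constantCoeff] at h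
      simp at h
    haveI : IsLocalRing S := IsLocalRing.of_surjective' (Ideal.Quotient.mk _) Ideal.Quotient.mk_surjective
    haveI : IsAdicComplete (maximalIdeal S) S := FiniteCompleteLib.isAdicComplete_maximalIdeal P S
    let π : P →ₐ[k] S := e.toAlgHom.comp (Ideal.Quotient.mkₐ k (Ideal.span {F}))
    have hπ : Function.Surjective π := e.surjective.comp Ideal.Quotient.mk_surjective
    haveI : IsLocalHom π.toRingHom := Function.Surjective.isLocalHom π.toRingHom hπ
    haveI : IsLocalHom (Ideal.Quotient.mk (Ideal.span ({MvPowerSeries.X 1 ^ 2} : Set P))) :=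
      Ideal.Quotient.mk_surjective.isLocalHom _
    have hπm : ∀ z ∈ maximalIdeal P, π z ∈ maximalIdeal S := fun z hz hu => hz (isUnit_of_map_unit π.toRingHom z hu)
    choose Z hZ using fun i : Fin 2 => Ideal.Quotient.mk_surjective (π (MvPowerSeries.X i))
    have hZ0 : ∀ i, MvPowerSeries.constantCoeff (Z i) = 0 := fun i => mem_max_iff_P.1 fun hu =>
      (hπm _ (mem_max_iff_P.2 (MvPowerSeries.constantCoeff_X i))) (hZ i ▸ hu.map _)
    obtain ⟨θ, hθ⟩ := exists_coord Z hZ0 (by
      intro z hz
      obtain ⟨y, hy⟩ := hπ (Ideal.Quotient.mk _ z)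
      have hym : y ∈ maximalIdeal P := fun hu => hz
        (isUnit_of_map_unit (Ideal.Quotient.mk (Ideal.span ({MvPowerSeries.X 1 ^ 2} : Set P))) z (hy ▸ hu.map π))
      obtain ⟨A, B, hAB⟩ := Ideal.mem_span_pair.1 (max_P_eq (k := k) ▸ hym)
      obtain ⟨A', hA'⟩ := Ideal.Quotient.mk_surjective (π A)
      obtain ⟨B', hB'⟩ := Ideal.Quotient.mk_surjective (π B)
      have e' : z - (A' * Z 0 + B' * Z 1) ∈ Ideal.span ({MvPowerSeries.X 1 ^ 2} : Set P) := by
        rw [← Ideal.Quotient.eq, map_add, map_mul, map_mul, hA', hB', hZ, hZ, ← map_mul, ← map_mul, ← map_add,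
          hAB, hy]
      obtain ⟨c, hc⟩ := Ideal.mem_span_singleton.1 e'
      rw [show z = (A' * Z 0 + B' * Z 1) + MvPowerSeries.X 1 ^ 2 * c by rw [← hc]; ring]
      exact add_mem (Submodule.mem_sup_left (add_mem (Ideal.mul_mem_left _ _ (Ideal.subset_span ⟨0, rfl⟩))
        (Ideal.mul_mem_left _ _ (Ideal.subset_span ⟨1, rfl⟩))))
        (Submodule.mem_sup_right (Ideal.mul_mem_right _ _
          (Ideal.pow_mem_pow (mem_max_iff_P.2 (MvPowerSeries.constantCoeff_X (1 : Fin 2))) 2))))
    have hcomp : (Ideal.Quotient.mkₐ k (Ideal.span ({MvPowerSeries.X 1 ^ 2} : Set P))).comp θ.toAlgHom = π := by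
      refine ArtFunLib.ps_ext (maximalIdeal S) (fun i => ?_) fun i => ?_
      · show Ideal.Quotient.mk _ (θ (MvPowerSeries.X i)) ∈ _
        rw [hθ, hZ]
        exact hπm _ (mem_max_iff_P.2 (MvPowerSeries.constantCoeff_X i))
      · show Ideal.Quotient.mk _ (θ (MvPowerSeries.X i)) = _
        rw [hθ, hZ]
    set w := θ.symm (MvPowerSeries.X 1) with hwdef
    have hw : Prime w := (MulEquiv.prime_iff θ.symm.toMulEquiv).2 X1_prime
    have hFw : Associated F (w ^ 2) := by
      refine associated_of_dvd_dvd ?_ ?_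
      · have h : π (w ^ 2) = 0 := by
          rw [← hcomp]
          show Ideal.Quotient.mk _ (θ (w ^ 2)) = 0
          rw [map_pow, AlgEquiv.apply_symm_apply]
          exact Ideal.Quotient.eq_zero_iff_mem.2 (Ideal.mem_span_singleton_self _)
        exact Ideal.mem_span_singleton.1 (Ideal.Quotient.eq_zero_iff_mem.1 (e.map_eq_zero_iff.1 h))
      · have h : π F = 0 := by
          show e (Ideal.Quotient.mk _ F) = 0
          rw [Ideal.Quotient.eq_zero_iff_mem.2 (Ideal.mem_span_singleton_self F), map_zero]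
        rw [← hcomp] at h
        obtain ⟨c, hc⟩ := Ideal.mem_span_singleton.1 (Ideal.Quotient.eq_zero_iff_mem.1 h)
        exact ⟨θ.symm c, by rw [hwdef, ← map_pow, ← map_mul, ← hc]; exact (θ.symm_apply_apply F).symm⟩
    have hwm : w ∉ maximalIdeal P ^ 2 := fun h => by
      have h' : θ w ∈ maximalIdeal P ^ 2 := by
        refine Ideal.pow_right_mono (?_ : (maximalIdeal P).map θ ≤ maximalIdeal P) 2
          (by rw [← Ideal.map_pow]; exact Ideal.mem_map_of_mem θ h)
        exact Ideal.map_le_iff_le_comap.2 fun z hz hu => hz (by simpa using hu.map θ.symm)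
      rw [AlgEquiv.apply_symm_apply] at h'
      have := PowerSeries.X_pow_dvd_iff.1 (X_pow_dvd_line 0 1 h') 1 one_lt_two
      simp [line_X1] at this
    have hf0 : f ≠ 0 := fun h => by
      rw [hF, h, map_zero] at hFw
      exact pow_ne_zero 2 hw.ne_zero ((associated_zero_iff_eq_zero _).1 hFw.symm)
    have factor : ∀ g : MvPolynomial (Fin 2) k, g ≠ 0 → w ∣ germAt a g →
        ∃ p, Irreducible p ∧ w ∣ germAt a p ∧ p ∣ g := by
      intro g hg hwg
      obtain ⟨u, hu⟩ := UniqueFactorizationMonoid.factors_prod hg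
      rw [← hu, map_mul, map_multiset_prod] at hwg
      rcases hw.dvd_or_dvd hwg with h | h
      · obtain ⟨z, hz, hwz⟩ := hw.exists_mem_multiset_dvd h
        obtain ⟨p, hp, rfl⟩ := Multiset.mem_map.1 hz
        exact ⟨p, UniqueFactorizationMonoid.irreducible_of_factor p hp, hwz,
          UniqueFactorizationMonoid.dvd_of_mem_factors hp⟩
      · exact absurd (isUnit_of_dvd_unit h (u.isUnit.map (germAt a))) hw.not_unit
    obtain ⟨p, hp, hpw, f', rfl⟩ := factor f hf0 ((dvd_pow_self w two_ne_zero).trans hFw.symm.dvd)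
    have hnsq : ¬ w ^ 2 ∣ germAt a p := by
      intro hsq
      obtain ⟨i, hi⟩ := exists_pderiv_ne_zero hp
      have hder : w ∣ germAt a (MvPolynomial.pderiv i p) := by
        rw [germAt_apply, ← pderiv_shift, ← coe_pderiv, ← germAt_apply]
        obtain ⟨c, hc⟩ := hsq
        rw [hc, pow_two, Derivation.leibniz, Derivation.leibniz]
        simp only [smul_eq_mul]
        exact dvd_add (dvd_mul_of_dvd_left (dvd_mul_right w w) _)
          (dvd_mul_of_dvd_right (dvd_add (dvd_mul_right _ _) (dvd_mul_right _ _)) _)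
      have hdvd := dvd_of_branch a hw hp hpw hder
      obtain ⟨c, hc⟩ := hdvd
      have hc0 : c ≠ 0 := fun h => hi (by rw [hc, h, mul_zero])
      have hd : (MvPolynomial.pderiv i p).totalDegree < p.totalDegree := by
        refine totalDegree_pderiv_lt i hi
      rw [hc, MvPolynomial.totalDegree_mul_of_isDomain hp.ne_zero hc0] at hd
      omega
    obtain ⟨c, hc⟩ := hpw
    have hwc : ¬ w ∣ c := fun ⟨d, hd⟩ => hnsq ⟨d, by rw [hc, hd, pow_two, mul_assoc]⟩
    obtain ⟨d, hd⟩ : w ∣ germAt a f' := by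
      have h : w * w ∣ w * (c * germAt a f') := by
        rw [← mul_assoc, ← hc, ← map_mul (germAt a), ← pow_two]; exact hFw.symm.dvd
      exact (hw.dvd_or_dvd ((mul_dvd_mul_iff_left hw.ne_zero).1 h)).resolve_left hwc
    obtain ⟨p', hp', hpw', hp'f⟩ := factor f' (fun h => hf0 (by rw [h, mul_zero])) ⟨d, hd⟩
    obtain ⟨h, rfl⟩ := (dvd_of_branch a hw hp ⟨c, hc⟩ hpw').trans hp'f
    have hu : IsUnit (c * c * germAt a h) := by
      have h1 : Associated (w ^ 2 * (c * c * germAt a h)) (w ^ 2 * 1) := by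
        rw [mul_one]
        refine Associated.trans (Associated.of_eq ?_) hFw
        rw [hF, map_mul, map_mul, hc]; ring
      exact associated_one_iff_isUnit.1
        (Associated.of_mul_left h1 (Associated.refl _) (pow_ne_zero 2 hw.ne_zero))
    have hcu : IsUnit c := isUnit_of_mul_isUnit_left (isUnit_of_mul_isUnit_left hu)
    refine ⟨p, h, by ring, (isUnit_germAt_iff a h).1 (isUnit_of_mul_isUnit_right hu), ?_, ?_⟩
    · by_contra hne
      exact hw.not_unit (isUnit_of_dvd_unit ⟨c, hc⟩ ((isUnit_germAt_iff a p).2 hne))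
    · by_contra hno
      push Not at hno
      have hp0 : MvPowerSeries.constantCoeff (germAt a p) = 0 := by
        by_contra hne
        exact hw.not_unit (isUnit_of_dvd_unit ⟨c, hc⟩
          (MvPowerSeries.isUnit_iff_constantCoeff.2 (isUnit_iff_ne_zero.2 hne)))
      have hl := linear_part hp0
      have hz : ∀ i, MvPowerSeries.coeff (Finsupp.single i 1) (germAt a p) = 0 := fun i => by
        rw [germAt_apply, MvPolynomial.coeff_coe, coeff_single_eq_eval, pderiv_shift, eval_shift, hno]
      rw [hz, hz, map_zero, zero_mul, zero_mul, add_zero, sub_zero, hc] at hl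
      refine hwm ?_
      have h' := Ideal.mul_mem_right (↑hcu.unit⁻¹ : P) _ hl
      rwa [mul_assoc, IsUnit.mul_val_inv, mul_one] at h'
  · rintro ⟨g, h, rfl, hh, hg, i, hi⟩
    set G := germAt a g with hGdef
    have hG0 : MvPowerSeries.constantCoeff G = 0 := by rw [constantCoeff_germAt, hg]
    have hlin : MvPowerSeries.coeff (Finsupp.single i 1) G ≠ 0 := by
      rw [hGdef, germAt_apply, MvPolynomial.coeff_coe, coeff_single_eq_eval, pderiv_shift, eval_shift]
      exact hi
    have hl := linear_part hG0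
    obtain ⟨ψ, hψ⟩ : ∃ ψ : MvPowerSeries (Fin 2) k ≃ₐ[k] MvPowerSeries (Fin 2) k, ψ (MvPowerSeries.X 1) = G := by
      let j : Fin 2 := if i = 0 then 1 else 0
      set I := Ideal.span {MvPowerSeries.X j, G} ⊔ maximalIdeal (MvPowerSeries (Fin 2) k) ^ 2
      have hj : MvPowerSeries.X j ∈ I := Submodule.mem_sup_left (Ideal.subset_span (Set.mem_insert _ _))
      have hGI : G ∈ I := Submodule.mem_sup_left (Ideal.subset_span (Set.mem_insert_of_mem _ rfl))
      have hi' : MvPowerSeries.X i ∈ I := by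
        have key : MvPowerSeries.C (MvPowerSeries.coeff (Finsupp.single i 1) G) * MvPowerSeries.X i ∈ I := by
          have h2 := sub_mem (sub_mem hGI (Submodule.mem_sup_right hl : _ ∈ I))
            (Ideal.mul_mem_left I (MvPowerSeries.C (MvPowerSeries.coeff (Finsupp.single j 1) G)) hj)
          rw [sub_sub_cancel] at h2
          fin_cases i <;> simpa [j] using h2
        have h' := Ideal.mul_mem_left I (MvPowerSeries.C (MvPowerSeries.coeff (Finsupp.single i 1) G)⁻¹) key
        rwa [← mul_assoc, ← map_mul, inv_mul_cancel₀ hlin, map_one, one_mul] at h'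
      obtain ⟨ψ, hψ⟩ := exists_coord ![MvPowerSeries.X j, G]
        (Fin.forall_fin_two.2 ⟨MvPowerSeries.constantCoeff_X _, hG0⟩) (pair_le
          (by fin_cases i; exacts [hi', hj]) (by fin_cases i; exacts [hj, hi']))
      exact ⟨ψ, hψ 1⟩
    refine ⟨(nonempty_quotEquiv ψ (G := MvPowerSeries.X 1 ^ 2) (F := F) ?_).some.symm⟩
    rw [map_pow, hψ]
    exact ⟨((isUnit_germAt_iff a h).2 hh).unit, by rw [IsUnit.unit_spec, hF, map_mul, map_pow]⟩

end Groth.Agent.ArSingLib
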